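import Mathlib

/-! The Coxeter presentation of the symmetric group. -/

set_option autoImplicit false

namespace Cfsg.Agent.Arith.CoxeterA

open Equiv

/-- The tautological system. -/
noncomputable def sys (n : ℕ) : CoxeterSystem (CoxeterMatrix.A n) (CoxeterMatrix.A n).Group :=
  (CoxeterMatrix.A n).toCoxeterSystem

theorem matrix_eq (n : ℕ) (i j : Fin n) : CoxeterMatrix.A n i j =
    if i = j then 1 else if (j : ℕ) + 1 = i ∨ (i : ℕ) + 1 = j then 3 else 2 := rfl

theorem adjacent_liftable (n : ℕ) :
    (CoxeterMatrix.A n).IsLiftable fun i : Fin n => swap i.castSucc i.succ := by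
  intro i j
  rw [matrix_eq]
  split_ifs with h h'
  · subst h; simp
  · have key : ∀ a b : Fin n, (a : ℕ) + 1 = b →
        (swap a.castSucc a.succ * swap b.castSucc b.succ) ^ 3 = 1 := by
      intro a b hab
      have e : b.castSucc = a.succ := Fin.ext (by simp [hab])
      rw [e, swap_comm a.castSucc a.succ]
      have := (Perm.isThreeCycle_swap_mul_swap_same (a := a.succ) (b := a.castSucc) (c := b.succ)
        (by simp [Fin.ext_iff]) (by simp [Fin.ext_iff]; omega)
        (by simp [Fin.ext_iff]; omega)).orderOf
      rw [← this]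
      exact pow_orderOf_eq_one _
    rcases h' with h' | h'
    · have := key j i h'
      rw [← inv_inj, inv_one, ← inv_pow, mul_inv_rev, swap_inv, swap_inv]
      exact this
    · exact key i j h'
  · have hd : (swap i.castSucc i.succ).Disjoint (swap j.castSucc j.succ) := by
      intro x
      simp only [swap_apply_def]
      push Not at h'
      have := Fin.val_injective.ne h
      split_ifs with h1 h2 h3 h4 h5 h6 <;> simp_all [Fin.ext_iff] <;> omega
    rw [sq, mul_assoc, ← mul_assoc (swap j.castSucc j.succ), hd.symm.commute.eq, mul_assoc,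
      swap_mul_self, mul_one, swap_mul_self]

/-- The action on `n + 1` points. -/
noncomputable def act (n : ℕ) : (CoxeterMatrix.A n).Group →* Perm (Fin (n + 1)) :=
  (sys n).lift ⟨_, adjacent_liftable n⟩

theorem act_simple (n : ℕ) (i : Fin n) : act n ((sys n).simple i) = swap i.castSucc i.succ :=
  (sys n).lift_apply_simple _ i

theorem castSucc_liftable (n : ℕ) :
    (CoxeterMatrix.A n).IsLiftable fun i : Fin n => (sys (n + 1)).simple i.castSucc := by
  intro i j
  have := (sys (n + 1)).simple_mul_simple_pow i.castSucc j.castSucc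
  rw [matrix_eq] at this ⊢
  simpa [Fin.castSucc_inj] using this

/-- The inclusion of the smaller Coxeter group. -/
noncomputable def emb (n : ℕ) : (CoxeterMatrix.A n).Group →* (CoxeterMatrix.A (n + 1)).Group :=
  (sys n).lift ⟨_, castSucc_liftable n⟩

theorem emb_simple (n : ℕ) (i : Fin n) :
    emb n ((sys n).simple i) = (sys (n + 1)).simple i.castSucc :=
  (sys n).lift_apply_simple _ i

theorem act_emb (n : ℕ) (w : (CoxeterMatrix.A n).Group) :
    (∀ x : Fin (n + 1), act (n + 1) (emb n w) x.castSucc = (act n w x).castSucc) ∧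
      act (n + 1) (emb n w) (Fin.last (n + 1)) = Fin.last (n + 1) := by
  induction w using (sys n).simple_induction_left with
  | one => simp
  | mul_simple_left w i ih =>
    refine ⟨fun x => ?_, ?_⟩
    · rw [map_mul, map_mul, map_mul, Perm.mul_apply, Perm.mul_apply, ih.1, emb_simple, act_simple,
        act_simple, swap_apply_def, swap_apply_def]
      split_ifs <;> simp_all [Fin.ext_iff]
    · rw [map_mul, map_mul, Perm.mul_apply, ih.2, emb_simple, act_simple,
        swap_apply_of_ne_of_ne] <;> simp [Fin.ext_iff] <;> omega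

section
variable (n : ℕ)

/-- Generator indexed by a natural number. -/
noncomputable def sg (j : ℕ) : (CoxeterMatrix.A (n + 1)).Group :=
  if h : j < n + 1 then (sys (n + 1)).simple ⟨j, h⟩ else 1

theorem sg_eq {j : ℕ} (h : j < n + 1) : sg n j = (sys (n + 1)).simple ⟨j, h⟩ := dif_pos h

theorem sg_sq (j : ℕ) : sg n j * sg n j = 1 := by
  unfold sg
  split_ifs
  · exact (sys (n + 1)).simple_mul_simple_self _
  · exact one_mul 1

theorem sg_far {i j : ℕ} (h : i + 1 < j ∨ j + 1 < i) : sg n i * sg n j = sg n j * sg n i := by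
  unfold sg
  split_ifs with hi hj hj
  all_goals try simp only [one_mul, mul_one]
  have := (sys (n + 1)).simple_mul_simple_pow ⟨i, hi⟩ ⟨j, hj⟩
  rw [matrix_eq, if_neg (by simp [Fin.ext_iff]; omega), if_neg (by simp; omega), sq] at this
  have h2 := eq_inv_of_mul_eq_one_left this
  rwa [mul_inv_rev, CoxeterSystem.inv_simple, CoxeterSystem.inv_simple] at h2

theorem sg_braid {i : ℕ} (h : i < n) :
    sg n (i + 1) * sg n i * sg n (i + 1) = sg n i * sg n (i + 1) * sg n i := by
  rw [sg_eq n (show i + 1 < n + 1 by omega), sg_eq n (show i < n + 1 by omega)]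
  set a := (sys (n + 1)).simple ⟨i + 1, by omega⟩
  set b := (sys (n + 1)).simple ⟨i, by omega⟩
  have := (sys (n + 1)).simple_mul_simple_pow ⟨i + 1, by omega⟩ ⟨i, by omega⟩
  rw [matrix_eq, if_neg (by simp [Fin.ext_iff]), if_pos (by simp)] at this
  have ha : a * a = 1 := (sys (n + 1)).simple_mul_simple_self _
  have hb : b * b = 1 := (sys (n + 1)).simple_mul_simple_self _
  have h6 : a * b * a * (b * a * b) = 1 := by
    rw [show a * b * a * (b * a * b) = (a * b) ^ 3 by simp only [pow_succ, pow_zero, one_mul, mul_assoc]]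
    exact this
  calc a * b * a = a * b * a * (b * a * b * (b * a * b)) := by
        rw [show b * a * b * (b * a * b) = 1 by
          simp only [mul_assoc]
          rw [← mul_assoc b b, hb, one_mul, ← mul_assoc a a, ha, one_mul, hb],
          mul_one]
    _ = b * a * b := by rw [← mul_assoc, h6, one_mul]

/-- The chain `c m = s_n s_{n-1} ⋯ s_{n+1-m}`. -/
noncomputable def chain : ℕ → (CoxeterMatrix.A (n + 1)).Group
  | 0 => 1
  | m + 1 => chain m * sg n (n - m)

/-- `rep k = s_n ⋯ s_k`. -/
noncomputable def rep (k : ℕ) : (CoxeterMatrix.A (n + 1)).Group := chain n (n + 1 - k)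

theorem rep_succ {k : ℕ} (h : k ≤ n) : rep n k = rep n (k + 1) * sg n k := by
  unfold rep
  rw [show n + 1 - k = (n + 1 - (k + 1)) + 1 by omega, chain]
  congr 2
  omega

theorem rep_last : rep n (n + 1) = 1 := by simp [rep, chain]

theorem rep_comm {i : ℕ} : ∀ m k, n + 1 - k = m → i + 1 < k → k ≤ n + 1 →
    rep n k * sg n i = sg n i * rep n k := by
  intro m
  induction m with
  | zero =>
    intro k hm _ hk
    rw [show k = n + 1 by omega, rep_last, one_mul, mul_one]
  | succ m ih =>
    intro k hm hi hk
    rw [rep_succ n (show k ≤ n by omega), mul_assoc, sg_far n (Or.inr hi), ← mul_assoc,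
      ih (k + 1) (by omega) (by omega) (by omega), mul_assoc]

theorem rep_shift : ∀ d k i, i = k + d + 1 → i ≤ n → rep n k * sg n i = sg n (i - 1) * rep n k := by
  intro d
  induction d with
  | zero =>
    intro k i hi hn
    subst hi
    simp only [Nat.add_zero, Nat.add_sub_cancel]
    rw [rep_succ n (show k ≤ n by omega), rep_succ n (show k + 1 ≤ n by omega)]
    calc rep n (k + 1 + 1) * sg n (k + 1) * sg n k * sg n (k + 1)
        = rep n (k + 1 + 1) * (sg n (k + 1) * sg n k * sg n (k + 1)) := by group
      _ = rep n (k + 1 + 1) * sg n k * (sg n (k + 1) * sg n k) := by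
          rw [sg_braid n (by omega)]; group
      _ = sg n k * rep n (k + 1 + 1) * (sg n (k + 1) * sg n k) := by
          rw [rep_comm n _ _ rfl (by omega) (by omega)]
      _ = sg n k * (rep n (k + 1 + 1) * sg n (k + 1) * sg n k) := by group
  | succ d ih =>
    intro k i hi hn
    rw [rep_succ n (show k ≤ n by omega), mul_assoc, sg_far n (Or.inl (by omega)), ← mul_assoc,
      ih (k + 1) i (by omega) hn, mul_assoc]

theorem exists_form (x : (CoxeterMatrix.A (n + 1)).Group) :
    ∃ w k, k ≤ n + 1 ∧ x = emb n w * rep n k := by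
  induction x using (sys (n + 1)).simple_induction_right with
  | one => exact ⟨1, n + 1, le_rfl, by rw [map_one, rep_last, one_mul]⟩
  | mul_simple_right x i ih =>
    obtain ⟨w, k, hk, rfl⟩ := ih
    rw [show (sys (n + 1)).simple i = sg n i from (sg_eq n i.2).symm]
    have hi := i.2
    have hemb : ∀ j, j < n → sg n j ∈ (emb n).range := fun j hj =>
      ⟨(sys n).simple ⟨j, hj⟩, by rw [emb_simple, sg_eq n (by omega)]; rfl⟩
    rcases lt_trichotomy ((i : ℕ) + 1) k with h | h | h
    · obtain ⟨u, hu⟩ := hemb i (by omega)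
      exact ⟨w * u, k, hk, by rw [mul_assoc, rep_comm n _ _ rfl h hk, map_mul, hu, mul_assoc]⟩
    · refine ⟨w, i, by omega, ?_⟩
      rw [rep_succ n (show (i : ℕ) ≤ n by omega), h, mul_assoc]
    · rcases eq_or_lt_of_le (show k ≤ i by omega) with rfl | h'
      · refine ⟨w, (i : ℕ) + 1, by omega, ?_⟩
        rw [rep_succ n (show (i : ℕ) ≤ n by omega), mul_assoc, mul_assoc, sg_sq, mul_one]
      · obtain ⟨u, hu⟩ := hemb ((i : ℕ) - 1) (by omega)
        refine ⟨w * u, k, hk, ?_⟩
        rw [mul_assoc, rep_shift n ((i : ℕ) - k - 1) k i (by omega) (by omega), map_mul, hu, mul_assoc]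

theorem act_rep : ∀ m k, n + 1 - k = m → (hk : k ≤ n + 1) →
    act (n + 1) (rep n k) ⟨k, by omega⟩ = Fin.last (n + 1) := by
  intro m
  induction m with
  | zero =>
    intro k hm hk
    obtain rfl : k = n + 1 := by omega
    rw [rep_last, map_one]
    rfl
  | succ m ih =>
    intro k hm hk
    rw [rep_succ n (show k ≤ n by omega), map_mul, Perm.mul_apply, sg_eq n (show k < n + 1 by omega),
      act_simple, show (Fin.castSucc (⟨k, by omega⟩ : Fin (n + 1))) = (⟨k, by omega⟩ : Fin (n + 2)) from rfl,
      swap_apply_left]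
    exact ih (k + 1) (by omega) (by omega)

end

theorem act_injective : ∀ n, Function.Injective (act n)
  | 0 => by
    intro x y _
    have : ∀ x : (CoxeterMatrix.A 0).Group, x = 1 := fun x => by
      induction x using (sys 0).simple_induction_left with
      | one => rfl
      | mul_simple_left w i _ => exact i.elim0
    rw [this x, this y]
  | n + 1 => by
    rw [injective_iff_map_eq_one]
    intro x hx
    obtain ⟨w, k, hk, rfl⟩ := exists_form n x
    have hkn : k = n + 1 := by
      by_contra hne
      have h1 : act (n + 1) (emb n w * rep n k) ⟨k, by omega⟩ = ⟨k, by omega⟩ := by rw [hx]; rfl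
      rw [map_mul, Perm.mul_apply, act_rep n _ k rfl hk, (act_emb n w).2] at h1
      exact hne (by simpa [Fin.ext_iff] using h1.symm)
    subst hkn
    rw [rep_last, mul_one] at hx ⊢
    have hw : w = 1 := by
      apply act_injective n
      rw [map_one]
      refine Equiv.ext fun y => Fin.castSucc_injective _ ?_
      rw [← (act_emb n w).1, hx]
      rfl
    rw [hw, map_one]

theorem act_surjective (n : ℕ) : Function.Surjective (act n) := by
  intro g
  have hg : g ∈ Submonoid.closure (Set.range fun i : Fin n => swap i.castSucc i.succ) := by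
    rw [Perm.mclosure_swap_castSucc_succ]; trivial
  induction hg using Submonoid.closure_induction with
  | mem x hx => obtain ⟨i, rfl⟩ := hx; exact ⟨_, act_simple n i⟩
  | one => exact ⟨1, map_one _⟩
  | mul x y _ _ hx hy =>
    obtain ⟨a, rfl⟩ := hx
    obtain ⟨b, rfl⟩ := hy
    exact ⟨a * b, map_mul _ _ _⟩

/-- The Coxeter system of the symmetric group. -/
noncomputable def permSystem (n : ℕ) : CoxeterSystem (CoxeterMatrix.A n) (Perm (Fin (n + 1))) :=
  ⟨(MulEquiv.ofBijective (act n) ⟨act_injective n, act_surjective n⟩).symm⟩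

theorem permSystem_simple (n : ℕ) (i : Fin n) :
    (permSystem n).simple i = swap i.castSucc i.succ :=
  act_simple n i

end Cfsg.Agent.Arith.CoxeterA
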