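import Mathlib

/-!
Poisson summation for Gaussian sums over `ℤ^n` attached to a positive definite real matrix,
by induction on `n` from the functional equation of the Jacobi theta function.
-/

set_option autoImplicit false

namespace Cfsg.Agent.Arith.GaussPoisson

open Real Matrix

noncomputable section

/-- The quadratic form of a matrix. -/
def qf {n : ℕ} (B : Matrix (Fin n) (Fin n) ℝ) (v : Fin n → ℝ) : ℝ := v ⬝ᵥ (B *ᵥ v)

/-- Integer vector as a real vector. -/
def toR {n : ℕ} (x : Fin n → ℤ) : Fin n → ℝ := fun i => (x i : ℝ)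

lemma qf_pos {n : ℕ} {B : Matrix (Fin n) (Fin n) ℝ} (hB : B.PosDef) {v : Fin n → ℝ} (hv : v ≠ 0) :
    0 < qf B v := by
  simpa [qf] using hB.dotProduct_mulVec_pos hv

lemma qf_nonneg {n : ℕ} {B : Matrix (Fin n) (Fin n) ℝ} (hB : B.PosDef) (v : Fin n → ℝ) :
    0 ≤ qf B v := by
  rcases eq_or_ne v 0 with rfl | hv
  · simp [qf]
  · exact (qf_pos hB hv).le

lemma qf_smul {n : ℕ} (B : Matrix (Fin n) (Fin n) ℝ) (r : ℝ) (v : Fin n → ℝ) :
    qf B (r • v) = r ^ 2 * qf B v := by
  simp [qf, mulVec_smul, smul_dotProduct, dotProduct_smul]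
  ring

lemma qf_lower {n : ℕ} {B : Matrix (Fin n) (Fin n) ℝ} (hB : B.PosDef) :
    ∃ c > 0, ∀ v : Fin n → ℝ, c * ∑ i, v i ^ 2 ≤ qf B v := by
  rcases Nat.eq_zero_or_pos n with rfl | hn
  · exact ⟨1, one_pos, fun v => by simp [qf, dotProduct]⟩
  have hne : (Metric.sphere (0 : Fin n → ℝ) 1).Nonempty := by
    refine ⟨fun _ => 1, ?_⟩
    simp [pi_norm_const, Fin.pos_iff_nonempty.1 hn]
  obtain ⟨v0, hv0, hmin⟩ := (isCompact_sphere (0 : Fin n → ℝ) 1).exists_isMinOn hne
    (f := qf B) (by unfold qf dotProduct mulVec; fun_prop)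
  have hv0' : v0 ≠ 0 := by
    rintro rfl
    simp at hv0
  have hm := qf_pos hB hv0'
  refine ⟨qf B v0 / n, by positivity, fun v => ?_⟩
  rcases eq_or_ne v 0 with rfl | hv
  · simp [qf]
  have hnv : 0 < ‖v‖ := norm_pos_iff.2 hv
  have h1 : qf B v0 ≤ qf B (‖v‖⁻¹ • v) := hmin (by simp [norm_smul, hnv.ne'])
  rw [qf_smul] at h1
  have h2 : ∑ i, v i ^ 2 ≤ n * ‖v‖ ^ 2 := by
    calc ∑ i, v i ^ 2 ≤ ∑ _i : Fin n, ‖v‖ ^ 2 := Finset.sum_le_sum fun i _ => by
          rw [← sq_abs, ← Real.norm_eq_abs]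
          exact pow_le_pow_left₀ (norm_nonneg _) (norm_le_pi_norm v i) 2
      _ = n * ‖v‖ ^ 2 := by simp
  calc qf B v0 / n * ∑ i, v i ^ 2 ≤ qf B v0 / n * (n * ‖v‖ ^ 2) :=
        mul_le_mul_of_nonneg_left h2 (by positivity)
    _ = qf B v0 * ‖v‖ ^ 2 := by field_simp
    _ ≤ ‖v‖⁻¹ ^ 2 * qf B v * ‖v‖ ^ 2 := mul_le_mul_of_nonneg_right h1 (by positivity)
    _ = qf B v := by field_simp

lemma summable_one (z : ℝ) {t : ℝ} (ht : 0 < t) :
    Summable fun k : ℤ => rexp (-(t * (z - k) ^ 2)) := by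
  have h := ((summable_jacobiTheta₂_term_iff (-Complex.I * ((t * z / π : ℝ) : ℂ))
    (Complex.I * ((t / π : ℝ) : ℂ))).2 (by simp; positivity)).norm.mul_left (rexp (-(t * z ^ 2)))
  refine h.congr fun k => ?_
  rw [norm_jacobiTheta₂_term, ← Real.exp_add]
  congr 1
  simp only [Complex.mul_im, Complex.neg_re, Complex.neg_im, Complex.I_re, Complex.I_im,
    Complex.ofReal_re, Complex.ofReal_im]
  field_simp
  ring

lemma summable_prod_pi : ∀ {n : ℕ} (f : Fin n → ℤ → ℝ), (∀ i k, 0 ≤ f i k) →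
    (∀ i, Summable (f i)) → Summable fun x : Fin n → ℤ => ∏ i, f i (x i) := by
  intro n
  induction n with
  | zero => intro f _ _; exact Summable.of_finite
  | succ n ih =>
    intro f h0 hs
    rw [← (Fin.consEquiv fun _ : Fin (n + 1) => ℤ).summable_iff]
    refine ((hs 0).mul_of_nonneg (ih (fun i => f i.succ) (fun i => h0 _) (fun i => hs _))
      (h0 0) (fun x => Finset.prod_nonneg fun i _ => h0 _ _)).congr fun p => ?_
    simp [Fin.prod_univ_succ]

/-- A Gaussian sum over a translate of `ℤ^n` converges. -/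
lemma summable_gauss {n : ℕ} {B : Matrix (Fin n) (Fin n) ℝ} (hB : B.PosDef) (z : Fin n → ℝ)
    {t : ℝ} (ht : 0 < t) : Summable fun k : Fin n → ℤ => rexp (-(t * qf B (z - toR k))) := by
  obtain ⟨c, hc, hle⟩ := qf_lower hB
  refine Summable.of_nonneg_of_le (fun k => (Real.exp_pos _).le) (fun k => ?_)
    (summable_prod_pi (fun i (k : ℤ) => rexp (-(t * c * (z i - k) ^ 2)))
      (fun i k => (Real.exp_pos _).le) (fun i => summable_one _ (mul_pos ht hc)))
  rw [← Real.exp_sum, Real.exp_le_exp]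
  rw [Finset.sum_neg_distrib, neg_le_neg_iff, ← Finset.mul_sum, mul_assoc]
  exact mul_le_mul_of_nonneg_left (hle (z - toR k)) ht.le

lemma summable_gauss_zero {n : ℕ} {B : Matrix (Fin n) (Fin n) ℝ} (hB : B.PosDef)
    {t : ℝ} (ht : 0 < t) : Summable fun k : Fin n → ℤ => rexp (-(t * qf B (toR k))) := by
  refine (summable_gauss hB 0 ht).congr fun k => ?_
  simp [qf, mulVec_neg]

section step

variable {n : ℕ} (B : Matrix (Fin (n + 1)) (Fin (n + 1)) ℝ)

/-- First row without its diagonal entry. -/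
def row0 : Fin n → ℝ := fun i => B 0 i.succ

/-- Schur complement of the top left entry. -/
def schur : Matrix (Fin n) (Fin n) ℝ :=
  Matrix.of fun i j => B i.succ j.succ - row0 B i * row0 B j / B 0 0

variable {B}

lemma mulVec_cons (hB : B.PosDef) (m : ℝ) (x : Fin n → ℝ) :
    B *ᵥ Fin.cons m x = Fin.cons (B 0 0 * m + row0 B ⬝ᵥ x)
      (fun i => row0 B i * m + (schur B *ᵥ x) i + row0 B i * (row0 B ⬝ᵥ x) / B 0 0) := by
  have hs : ∀ i j, B i j = B j i := fun i j => by simpa using (hB.1.apply i j).symm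
  funext i
  induction i using Fin.cases with
  | zero => simp [mulVec, dotProduct, row0, Fin.sum_univ_succ]
  | succ i =>
    simp only [mulVec, dotProduct, row0, schur, Fin.sum_univ_succ, Fin.cons_zero, Fin.cons_succ,
      of_apply, hs i.succ 0, Finset.mul_sum, Finset.sum_div, add_assoc]
    rw [← Finset.sum_add_distrib]
    congr 1
    exact Finset.sum_congr rfl fun j _ => by ring

lemma qf_cons (hB : B.PosDef) (m : ℝ) (x : Fin n → ℝ) :
    qf B (Fin.cons m x) = B 0 0 * (m + row0 B ⬝ᵥ x / B 0 0) ^ 2 + qf (schur B) x := by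
  have ha : 0 < B 0 0 := hB.diag_pos
  rw [qf, mulVec_cons hB]
  simp only [qf, dotProduct, Fin.sum_univ_succ, Fin.cons_zero, Fin.cons_succ]
  have h1 : ∀ i, x i * (row0 B i * m + (schur B *ᵥ x) i +
      row0 B i * (row0 B ⬝ᵥ x) / B 0 0) = (row0 B i * x i) * (m + row0 B ⬝ᵥ x / B 0 0)
        + x i * (schur B *ᵥ x) i := fun i => by ring
  simp only [dotProduct] at h1
  rw [Finset.sum_congr rfl fun i _ => h1 i, Finset.sum_add_distrib, ← Finset.sum_mul]
  field_simp
  ring

lemma schur_posDef (hB : B.PosDef) : (schur B).PosDef := by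
  refine PosDef.of_dotProduct_mulVec_pos ?_ fun x hx => ?_
  · ext i j
    have hs : B j.succ i.succ = B i.succ j.succ := by simpa using hB.1.apply i.succ j.succ
    simp [schur, hs, mul_comm]
  · have h := qf_pos hB (v := Fin.cons (-(row0 B ⬝ᵥ x / B 0 0)) x)
      (fun h => hx (funext fun i => by simpa using congrFun h i.succ))
    rw [qf_cons hB] at h
    simpa [qf] using h

lemma det_schur (hB : B.PosDef) : B.det = B 0 0 * (schur B).det := by
  have ha : B 0 0 ≠ 0 := hB.diag_pos.ne'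
  have hs : ∀ i j, B i j = B j i := fun i j => by simpa using (hB.1.apply i j).symm
  let c : Fin (n + 1) → ℝ := Fin.cons 0 fun i => -(B i.succ 0 / B 0 0)
  let A : Matrix (Fin (n + 1)) (Fin (n + 1)) ℝ := Matrix.of fun i j => B i j + c i * B 0 j
  have hA : A.det = B.det := det_eq_of_forall_row_eq_smul_add_const c 0 rfl fun i j => rfl
  rw [← hA, det_succ_column_zero, Fin.sum_univ_succ, Finset.sum_eq_zero fun i _ => ?_, add_zero]
  · have h00 : A 0 0 = B 0 0 := by simp [A, c]
    have hsub : A.submatrix (Fin.succAbove 0) Fin.succ = schur B := by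
      ext i j
      simp [A, c, schur, row0, hs i.succ 0]
      ring
    rw [h00, hsub]
    simp
  · have : A i.succ 0 = 0 := by
      simp [A, c]
      field_simp
      ring
    rw [this]
    simp

lemma qf_inv_schur (hB : B.PosDef) (w : Fin (n + 1) → ℝ) :
    qf B⁻¹ w = w 0 ^ 2 / B 0 0 +
      qf (schur B)⁻¹ (fun i => w i.succ - w 0 * row0 B i / B 0 0) := by
  have hu : IsUnit B.det := (isUnit_iff_isUnit_det B).1 hB.isUnit
  have hu' : IsUnit (schur B).det := (isUnit_iff_isUnit_det _).1 (schur_posDef hB).isUnit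
  have ha : 0 < B 0 0 := hB.diag_pos
  have hBu : B *ᵥ (B⁻¹ *ᵥ w) = w := by rw [mulVec_mulVec, mul_nonsing_inv _ hu, one_mulVec]
  have h0 : qf B⁻¹ w = qf B (B⁻¹ *ᵥ w) := by
    rw [qf, qf, hBu, dotProduct_comm]
  have hc : Fin.cons ((B⁻¹ *ᵥ w) 0) (Fin.tail (B⁻¹ *ᵥ w)) = B⁻¹ *ᵥ w := Fin.cons_self_tail _
  generalize hm : (B⁻¹ *ᵥ w) 0 = m at hc
  generalize hx : Fin.tail (B⁻¹ *ᵥ w) = x at hc
  rw [← hc, mulVec_cons hB] at hBu
  rw [h0, ← hc, qf_cons hB, ← hBu]
  simp only [Fin.cons_zero, Fin.cons_succ]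
  have h2 : (fun i => row0 B i * m + (schur B *ᵥ x) i + row0 B i * (row0 B ⬝ᵥ x) / B 0 0 -
      (B 0 0 * m + row0 B ⬝ᵥ x) * row0 B i / B 0 0) = schur B *ᵥ x := by
    funext i
    field_simp
    ring
  rw [h2]
  have h3 : qf (schur B)⁻¹ (schur B *ᵥ x) = qf (schur B) x := by
    rw [qf, qf, mulVec_mulVec, nonsing_inv_mul _ hu', one_mulVec, dotProduct_comm]
  rw [h3]
  field_simp

end step

lemma norm_cexp_neg_pi_I_div (τ : ℂ) (r : ℝ) :
    ‖Complex.exp (-(π * Complex.I / τ) * (r : ℂ))‖ = rexp (-(π * τ.im / Complex.normSq τ * r)) := by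
  rw [Complex.norm_exp]
  congr 1
  simp [Complex.div_re, Complex.div_im]

lemma norm_cexp_pi_I_mul (τ : ℂ) (r s : ℝ) :
    ‖Complex.exp (π * Complex.I * τ * (r : ℂ) + 2 * π * Complex.I * (s : ℂ))‖ =
      rexp (-(π * τ.im * r)) := by
  rw [Complex.norm_exp]
  congr 1
  simp

lemma jacobi_tsum (w : ℂ) (σ : ℂ) :
    ∑' m : ℤ, jacobiTheta₂_term m w σ =
      1 / (-Complex.I * σ) ^ (1 / 2 : ℂ) *
        ∑' k : ℤ, Complex.exp (-(π * Complex.I / σ) * (w - k) ^ 2) := by
  refine (jacobiTheta₂_functional_equation w σ).trans ?_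
  rw [mul_assoc, jacobiTheta₂, ← tsum_mul_left]
  congr 1
  refine tsum_congr fun k => ?_
  rw [jacobiTheta₂_term, ← Complex.exp_add]
  congr 1
  ring

/-- Poisson summation for a Gaussian on `ℤ^n`. -/
theorem poisson : ∀ {n : ℕ} {B : Matrix (Fin n) (Fin n) ℝ}, B.PosDef → ∀ {τ : ℂ}, 0 < τ.im →
    ∀ z : Fin n → ℝ,
    ∑' x : Fin n → ℤ, Complex.exp (π * Complex.I * τ * (qf B (toR x) : ℂ) +
        2 * π * Complex.I * ((z ⬝ᵥ toR x : ℝ) : ℂ)) =
      (1 / (-Complex.I * τ) ^ (1 / 2 : ℂ)) ^ n * (1 / (√B.det : ℂ)) *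
        ∑' k : Fin n → ℤ, Complex.exp (-(π * Complex.I / τ) * (qf B⁻¹ (z - toR k) : ℂ)) := by
  intro n
  induction n with
  | zero =>
    intro B _ τ _ z
    simp [tsum_eq_single (0 : Fin 0 → ℤ) (fun b hb => absurd (Subsingleton.elim b 0) hb), qf,
      dotProduct]
  | succ n ih =>
    intro B hB τ hτ z
    have ha : 0 < B 0 0 := hB.diag_pos
    set a := B 0 0 with hadef
    set b := row0 B with hbdef
    have hS := schur_posDef hB
    have hne : τ ≠ 0 := fun h => by simp [h] at hτ
    have hnsq : 0 < Complex.normSq τ := Complex.normSq_pos.2 hne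
    let e := Fin.consEquiv fun _ : Fin (n + 1) => ℤ
    let zt : Fin n → ℝ := fun i => z i.succ
    let z' : ℤ → Fin n → ℝ := fun k i => z i.succ - (z 0 - k) * b i / a
    have htoR : ∀ (m : ℤ) (x : Fin n → ℤ),
        toR (Fin.cons m x : Fin (n + 1) → ℤ) = Fin.cons (m : ℝ) (toR x) := by
      intro m x
      funext i
      induction i using Fin.cases <;> simp [toR]
    have he : ∀ (m : ℤ) (x : Fin n → ℤ), toR (e (m, x)) = Fin.cons (m : ℝ) (toR x) := htoR
    -- the mixed summand
    let T : (Fin n → ℤ) → ℤ → ℂ := fun x k =>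
      Complex.exp (π * Complex.I * τ * (qf (schur B) (toR x) : ℂ) +
          2 * π * Complex.I * ((z' k ⬝ᵥ toR x : ℝ) : ℂ)) *
        Complex.exp (-(π * Complex.I / τ) * (((z 0 - k) ^ 2 / a : ℝ) : ℂ))
    have hT : Summable (Function.uncurry T) := by
      refine Summable.of_norm ?_
      have h1 : Summable fun k : ℤ =>
          rexp (-(π * τ.im / Complex.normSq τ * ((z 0 - k) ^ 2 / a))) :=
        (summable_one (z 0) (t := π * τ.im / Complex.normSq τ / a) (by positivity)).congr
          fun k => by congr 1; ring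
      have h2 : Summable fun x : Fin n → ℤ => rexp (-(π * τ.im * qf (schur B) (toR x))) :=
        summable_gauss_zero hS (by positivity)
      refine (h2.mul_of_nonneg h1 (fun _ => (exp_pos _).le) (fun _ => (exp_pos _).le)).congr
        fun p => ?_
      simp only [Function.uncurry, T, norm_mul, norm_cexp_pi_I_mul, norm_cexp_neg_pi_I_div]
    have hL : Summable fun x : Fin (n + 1) → ℤ => Complex.exp
        (π * Complex.I * τ * (qf B (toR x) : ℂ) +
          2 * π * Complex.I * ((z ⬝ᵥ toR x : ℝ) : ℂ)) := by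
      refine Summable.of_norm ?_
      simp only [norm_cexp_pi_I_mul]
      exact summable_gauss_zero hB (by positivity)
    have hR : Summable fun k : Fin (n + 1) → ℤ =>
        Complex.exp (-(π * Complex.I / τ) * (qf B⁻¹ (z - toR k) : ℂ)) := by
      refine Summable.of_norm ?_
      simp only [norm_cexp_neg_pi_I_div]
      exact summable_gauss hB.inv z (by positivity)
    -- summing over the first coordinate
    have hfirst : ∀ x : Fin n → ℤ,
        (∑' m : ℤ, Complex.exp (π * Complex.I * τ * (qf B (toR (e (m, x))) : ℂ) +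
          2 * π * Complex.I * ((z ⬝ᵥ toR (e (m, x)) : ℝ) : ℂ))) =
          1 / (-Complex.I * ((a : ℂ) * τ)) ^ (1 / 2 : ℂ) * ∑' k : ℤ, T x k := by
      intro x
      set s := b ⬝ᵥ toR x with hsdef
      calc (∑' m : ℤ, Complex.exp (π * Complex.I * τ * (qf B (toR (e (m, x))) : ℂ) +
            2 * π * Complex.I * ((z ⬝ᵥ toR (e (m, x)) : ℝ) : ℂ)))
          = ∑' m : ℤ, jacobiTheta₂_term m ((z 0 : ℂ) + τ * (s : ℂ)) ((a : ℂ) * τ) *
              Complex.exp (π * Complex.I * τ * ((qf (schur B) (toR x) + s ^ 2 / a : ℝ) : ℂ) +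
                2 * π * Complex.I * ((zt ⬝ᵥ toR x : ℝ) : ℂ)) := by
            refine tsum_congr fun m => ?_
            have hz : z ⬝ᵥ Fin.cons (m : ℝ) (toR x) = z 0 * m + zt ⬝ᵥ toR x := by
              simp [dotProduct, Fin.sum_univ_succ, zt]
            rw [jacobiTheta₂_term, ← Complex.exp_add]
            congr 1
            have hq : qf B (Fin.cons (m : ℝ) (toR x)) =
                a * m ^ 2 + 2 * m * s + (qf (schur B) (toR x) + s ^ 2 / a) := by
              rw [qf_cons hB, ← hadef, ← hbdef, ← hsdef]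
              field_simp
              ring
            simp only [he, hq, hz]
            push_cast
            field_simp
            ring
        _ = _ := by
            rw [tsum_mul_right, jacobi_tsum, mul_assoc, ← tsum_mul_right]
            congr 1
            refine tsum_congr fun k => ?_
            have hzk : z' k ⬝ᵥ toR x = zt ⬝ᵥ toR x - (z 0 - k) * s / a := by
              simp only [z', zt, hsdef, dotProduct, Finset.mul_sum, Finset.sum_div,
                ← Finset.sum_sub_distrib]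
              exact Finset.sum_congr rfl fun i _ => by ring
            simp only [T]
            rw [← Complex.exp_add, ← Complex.exp_add]
            congr 1
            rw [hzk]
            push_cast
            field_simp
            ring
    -- summing over the others
    have hswap : ∀ k : ℤ, (∑' x : Fin n → ℤ, T x k) =
        (1 / (-Complex.I * τ) ^ (1 / 2 : ℂ)) ^ n * (1 / (√(schur B).det : ℂ)) *
          ∑' k' : Fin n → ℤ, Complex.exp (-(π * Complex.I / τ) *
            (qf B⁻¹ (z - toR (e (k, k'))) : ℂ)) := by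
      intro k
      rw [tsum_mul_right, ih hS hτ (z' k), mul_assoc _ _ (Complex.exp _), ← tsum_mul_right]
      congr 1
      refine tsum_congr fun k' => ?_
      rw [← Complex.exp_add]
      congr 1
      rw [qf_inv_schur hB]
      simp only [he, Pi.sub_apply, Fin.cons_zero, Fin.cons_succ, ← hadef, ← hbdef]
      have : (fun i => z i.succ - toR k' i - (z 0 - k) * b i / a) = z' k - toR k' := by
        funext i
        simp only [z', Pi.sub_apply]
        ring
      rw [this]
      push_cast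
      ring
    have hcpow : (-Complex.I * ((a : ℂ) * τ)) ^ (1 / 2 : ℂ) =
        (√a : ℂ) * (-Complex.I * τ) ^ (1 / 2 : ℂ) := by
      have hw : -Complex.I * τ ≠ 0 := mul_ne_zero (neg_ne_zero.2 Complex.I_ne_zero) hne
      have ha0 : (a : ℂ) ≠ 0 := Complex.ofReal_ne_zero.2 ha.ne'
      rw [show -Complex.I * ((a : ℂ) * τ) = (a : ℂ) * (-Complex.I * τ) by ring,
        Real.sqrt_eq_rpow, Complex.ofReal_cpow ha.le,
        Complex.cpow_def_of_ne_zero (mul_ne_zero ha0 hw), Complex.cpow_def_of_ne_zero ha0,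
        Complex.cpow_def_of_ne_zero hw, Complex.log_ofReal_mul ha hw, Complex.ofReal_log ha.le,
        add_mul, Complex.exp_add]
      push_cast
      ring
    have hdet : (√B.det : ℂ) = (√a : ℂ) * (√(schur B).det : ℂ) := by
      rw [det_schur hB, Real.sqrt_mul ha.le]
      push_cast
      rfl
    calc _ = ∑' p : (Fin n → ℤ) × ℤ, Complex.exp (π * Complex.I * τ * (qf B (toR (e p.swap)) : ℂ) +
          2 * π * Complex.I * ((z ⬝ᵥ toR (e p.swap) : ℝ) : ℂ)) :=
          (((Equiv.prodComm _ _).trans e).tsum_eq _).symm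
      _ = ∑' (x : Fin n → ℤ) (m : ℤ), Complex.exp
            (π * Complex.I * τ * (qf B (toR (e (m, x))) : ℂ) +
              2 * π * Complex.I * ((z ⬝ᵥ toR (e (m, x)) : ℝ) : ℂ)) :=
          (((Equiv.prodComm _ _).trans e).summable_iff.2 hL).tsum_prod
      _ = 1 / (-Complex.I * ((a : ℂ) * τ)) ^ (1 / 2 : ℂ) *
            ∑' (x : Fin n → ℤ) (k : ℤ), T x k := by
          rw [tsum_congr hfirst, tsum_mul_left]
      _ = 1 / (-Complex.I * ((a : ℂ) * τ)) ^ (1 / 2 : ℂ) *
            ∑' (k : ℤ) (x : Fin n → ℤ), T x k := by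
          rw [Summable.tsum_comm hT]
      _ = _ := by
          rw [tsum_congr hswap, tsum_mul_left, ← e.tsum_eq
            (fun k : Fin (n + 1) → ℤ =>
              Complex.exp (-(π * Complex.I / τ) * (qf B⁻¹ (z - toR k) : ℂ))),
            hcpow, hdet]
          have hp : (∑' c : ℤ × (Fin n → ℤ),
              Complex.exp (-(π * Complex.I / τ) * (qf B⁻¹ (z - toR (e c)) : ℂ))) =
              ∑' (k : ℤ) (k' : Fin n → ℤ),
              Complex.exp (-(π * Complex.I / τ) * (qf B⁻¹ (z - toR (e (k, k'))) : ℂ)) :=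
            (e.summable_iff.2 hR).tsum_prod
          rw [hp]
          rw [pow_succ]
          ring

end

end Cfsg.Agent.Arith.GaussPoisson
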