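import Cfsg.Agent.Arith.PrimDiv

/-! An irreducible fixed-point-free action of a group of prime order `p` on an elementary abelian
`q`-group has dimension `orderOf (q : ZMod p)`. -/

namespace Cfsg.Agent.Arith

open Polynomial

theorem card_eq_pow_orderOf {V : Type*} [AddCommGroup V] [Finite V] [Nontrivial V] {p q : ℕ}
    [hp : Fact p.Prime] (hq : q.Prime) (hqp : q ≠ p) (hVq : ∀ v : V, q • v = 0)
    (T : AddMonoid.End V) (hT : T ^ p = 1) (hT1 : T ≠ 1)
    (hirr : ∀ W : AddSubgroup V, (∀ w ∈ W, T w ∈ W) → W = ⊥ ∨ W = ⊤) :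
    Nat.card V = q ^ orderOf (q : ZMod p) := by
  have := Fact.mk hq
  let K : Subring (AddMonoid.End V) := Subring.closure {T}
  have : IsMulCommutative K := Subring.isMulCommutative_closure (by
    rintro x rfl y rfl; rfl)
  letI : CommRing K := { (inferInstance : Ring K) with
    mul_comm := fun a b => this.is_comm.comm a b }
  have hTK : T ∈ K := Subring.subset_closure rfl
  have hcomm : ∀ f : K, ∀ v, (f : AddMonoid.End V) (T v) = T ((f : AddMonoid.End V) v) := fun f v =>
    DFunLike.congr_fun (congrArg Subtype.val (mul_comm f ⟨T, hTK⟩)) v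
  have hinj : ∀ f : K, f ≠ 0 → Function.Injective (f : AddMonoid.End V) := by
    intro f hf
    let g : V →+ V := (f : AddMonoid.End V)
    rcases hirr g.ker (fun w hw => by
      rw [AddMonoidHom.mem_ker] at hw ⊢
      exact (hcomm f w).trans ((congrArg T hw).trans (map_zero T))) with h | h
    · exact (AddMonoidHom.ker_eq_bot_iff g).1 h
    · refine absurd (Subtype.ext (DFunLike.ext _ _ fun v => ?_)) hf
      exact (AddMonoidHom.mem_ker (f := g)).1 (h ▸ AddSubgroup.mem_top v)
  obtain ⟨a, ha⟩ := exists_ne (0 : V)
  let ev : K →+ V :=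
    { toFun := fun f => (f : AddMonoid.End V) a, map_zero' := rfl, map_add' := fun _ _ => rfl }
  have hev : Function.Bijective ev := by
    constructor
    · intro f g h
      by_contra hne
      apply ha
      apply hinj (f - g) (sub_ne_zero.2 hne)
      rw [map_zero]
      exact sub_eq_zero.2 h
    · rcases hirr ev.range (by
        rintro w ⟨f, rfl⟩; exact ⟨⟨T, hTK⟩ * f, rfl⟩) with h | h
      · have : a ∈ ev.range := ⟨1, rfl⟩
        rw [h, AddSubgroup.mem_bot] at this; exact absurd this ha
      · exact AddMonoidHom.range_eq_top.1 h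
  have : Finite K := Finite.of_injective ev hev.1
  have : Nontrivial K := ⟨0, 1, fun h => ha ((congrArg ev h).symm.trans (map_zero ev))⟩
  have : NoZeroDivisors K := ⟨fun {f g} h => by
    by_contra hc
    push Not at hc
    apply hc.1
    ext v
    obtain ⟨w, rfl⟩ := Finite.injective_iff_surjective.1 (hinj g hc.2) v
    exact DFunLike.congr_fun (congrArg Subtype.val h) w⟩
  have : IsDomain K := NoZeroDivisors.to_isDomain K
  have : CharP K q := (CharP.charP_iff_prime_eq_zero hq).2 (by
    ext v
    show ((q : AddMonoid.End V)) v = 0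
    rw [AddMonoid.End.natCast_apply, hVq])
  have hcard : Nat.card K = Nat.card V := Nat.card_eq_of_bijective ev hev
  have hpq : ¬ p ∣ q := fun h => hqp ((Nat.prime_dvd_prime_iff_eq hp.out hq).1 h).symm
  set e := orderOf (q : ZMod p) with he
  have hdvd : p ∣ q ^ e - 1 := (dvd_pow_sub_one_iff hq.one_le).2 dvd_rfl
  have hepos : 0 < e := Nat.pos_of_ne_zero fun h => by
    have h0 := ZMod.orderOf_dvd_card_sub_one (p := p) (a := (q : ZMod p))
      (fun h => hpq ((ZMod.natCast_eq_zero_iff _ _).1 h))
    rw [← he, h, zero_dvd_iff] at h0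
    have := hp.out.two_le; omega
  -- every element of `K` is a root of `X ^ (q ^ e) - X`
  have hTN : T ^ q ^ e = T := by
    obtain ⟨c, hc⟩ := hdvd
    rw [show q ^ e = p * c + 1 by have := Nat.one_le_pow e q hq.pos; omega, pow_succ, pow_mul, hT,
      one_pow, one_mul]
  have hfrob : ∀ f : K, f ^ q ^ e = f := by
    have key : (iterateFrobenius K q e).eqLocus (RingHom.id K) = ⊤ := by
      rw [eq_top_iff]
      rintro ⟨x, hx⟩ -
      induction hx using Subring.closure_induction with
      | mem x hx =>
        obtain rfl : x = T := hx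
        show iterateFrobenius K q e _ = _
        rw [iterateFrobenius_def]
        exact Subtype.ext (by simpa using hTN)
      | zero => exact zero_mem _
      | one => exact one_mem _
      | add x y hx hy ihx ihy => exact add_mem ihx ihy
      | neg x hx ihx => exact neg_mem ihx
      | mul x y hx hy ihx ihy => exact mul_mem ihx ihy
    intro f
    have : f ∈ (iterateFrobenius K q e).eqLocus (RingHom.id K) := key ▸ Subring.mem_top f
    exact (iterateFrobenius_def (R := K) q e f).symm.trans this
  have hle : Nat.card K ≤ q ^ e := by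
    classical
    letI := Fintype.ofFinite K
    have h1 : 1 < q ^ e := Nat.one_lt_pow hepos.ne' hq.one_lt
    have hne : (X ^ q ^ e - X : K[X]) ≠ 0 := fun h => by
      have := congrArg (fun f => coeff f (q ^ e)) h
      simp [coeff_X, (show (1 : ℕ) ≠ q ^ e by omega)] at this
    have := Polynomial.card_le_degree_of_subset_roots (p := (X ^ q ^ e - X : K[X])) (Z := Finset.univ)
      (fun f _ => by rw [Polynomial.mem_roots hne]; simp [hfrob f])
    rw [Finset.card_univ, ← Nat.card_eq_fintype_card] at this
    refine this.trans ((natDegree_sub_eq_left_of_natDegree_lt ?_).trans (natDegree_X_pow _)).le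
    rwa [natDegree_X_pow, natDegree_X]
  -- `card V` is a power of `q` congruent to `1` mod `p`
  have hV1 : 1 < Nat.card V := Finite.one_lt_card
  obtain ⟨k, hk⟩ : ∃ k, Nat.card V = q ^ k := ⟨_, Nat.eq_prime_pow_of_unique_prime_dvd
    (by omega) fun {d} hd hdv => by
      have := Fact.mk hd
      letI := Fintype.ofFinite V
      obtain ⟨v, hv⟩ := exists_prime_addOrderOf_dvd_card d (Nat.card_eq_fintype_card (α := V) ▸ hdv)
      exact (Nat.prime_dvd_prime_iff_eq hd hq).1 (hv ▸ addOrderOf_dvd_of_nsmul_eq_zero (hVq v))⟩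
  have hek : e ∣ k := by
    rw [he, ← dvd_pow_sub_one_iff hq.one_le, ← hk, ← hcard]
    have hTT : (⟨T, hTK⟩ : K) ^ p = 1 := Subtype.ext (by simpa using hT)
    classical
    letI := Fintype.ofFinite K
    letI : Field K := Fintype.fieldOfDomain K
    have hord : orderOf (⟨T, hTK⟩ : K) = p := orderOf_eq_prime hTT
      (fun h => hT1 (congrArg Subtype.val h))
    rw [← hord, Nat.card_eq_fintype_card]
    apply orderOf_dvd_of_pow_eq_one
    exact FiniteField.pow_card_sub_one_eq_one _ (fun h => by
      rw [h, orderOf_zero] at hord; exact hp.out.pos.ne hord)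
  have hk0 : k ≠ 0 := fun h => by rw [h, pow_zero] at hk; omega
  have := (Nat.pow_le_pow_iff_right hq.one_lt).1 (hk ▸ hcard ▸ hle)
  rw [hk, le_antisymm this (Nat.le_of_dvd (by omega) hek)]

end Cfsg.Agent.Arith
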