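import Mathlib
import Cfsg.Prelude.Def_JordanBlocks

/-! Order of the centraliser in GL of a unipotent matrix of given Jordan type. -/

set_option autoImplicit false

namespace Cfsg.Agent.Arith.JordanCent

open Matrix

variable {F : Type*} [Field F] {t : ℕ} {d : Fin t → ℕ}

/-- index type -/
abbrev Idx (d : Fin t → ℕ) := (k : Fin t) × Fin (d k)

/-- entries extended by zero -/
def ext (g : Matrix (Idx d) (Idx d) F) (l k : Fin t) (j i : ℕ) : F :=
  if h : j < d l ∧ i < d k then g ⟨l, j, h.1⟩ ⟨k, i, h.2⟩ else 0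

lemma ext_apply (g : Matrix (Idx d) (Idx d) F) (l k : Fin t) (j : Fin (d l)) (i : Fin (d k)) :
    g ⟨l, j⟩ ⟨k, i⟩ = ext g l k j i := by
  rw [ext, dif_pos ⟨j.2, i.2⟩]

lemma jordanBlock_sum_right {n : ℕ} (f : Fin n → F) (i : Fin n) :
    ∑ m, f m * Cfsg.jordanBlock n F m i = f i + if h : (i : ℕ) + 1 < n then f ⟨i + 1, h⟩ else 0 := by
  have e : ∀ m : Fin n, f m * Cfsg.jordanBlock n F m i =
      (if m = i then f m else 0) + (if (m : ℕ) = i + 1 then f m else 0) := by
    intro m
    simp only [Cfsg.jordanBlock, of_apply, Fin.ext_iff]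
    split_ifs <;> first | omega | simp
  rw [Finset.sum_congr rfl fun m _ => e m, Finset.sum_add_distrib, Finset.sum_ite_eq' Finset.univ i,
    if_pos (Finset.mem_univ i)]
  congr 1
  split_ifs with h
  · rw [Finset.sum_eq_single (⟨i + 1, h⟩ : Fin n)]
    · simp
    · intro m _ hm; rw [if_neg fun h' => hm (Fin.ext h')]
    · simp
  · exact Finset.sum_eq_zero fun m _ => if_neg (by omega)

lemma jordanBlock_sum_left {n : ℕ} (f : Fin n → F) (i : Fin n) :
    ∑ m, Cfsg.jordanBlock n F i m * f m = f i + if 0 < (i : ℕ) then f ⟨i - 1, by omega⟩ else 0 := by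
  have e : ∀ m : Fin n, Cfsg.jordanBlock n F i m * f m =
      (if m = i then f m else 0) + (if (i : ℕ) = m + 1 then f m else 0) := by
    intro m
    simp only [Cfsg.jordanBlock, of_apply, Fin.ext_iff]
    split_ifs <;> first | omega | simp
  rw [Finset.sum_congr rfl fun m _ => e m, Finset.sum_add_distrib, Finset.sum_ite_eq' Finset.univ i,
    if_pos (Finset.mem_univ i)]
  congr 1
  split_ifs with h
  · rw [Finset.sum_eq_single (⟨i - 1, by omega⟩ : Fin n)]
    · rw [if_pos (show (i : ℕ) = i - 1 + 1 by omega)]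
    · intro m _ hm; rw [if_neg fun h' => hm (Fin.ext (show (m : ℕ) = i - 1 by omega))]
    · simp
  · exact Finset.sum_eq_zero fun m _ => if_neg (by omega)

lemma mul_jordan (g : Matrix (Idx d) (Idx d) F) (l k : Fin t) (j : Fin (d l)) (i : Fin (d k)) :
    (g * Cfsg.jordanTypeMatrix d F) ⟨l, j⟩ ⟨k, i⟩ = ext g l k j i + ext g l k j (i + 1) := by
  rw [Matrix.mul_apply, Fintype.sum_sigma, Finset.sum_eq_single k]
  · simp only [Cfsg.jordanTypeMatrix, blockDiagonal'_apply_eq]
    rw [jordanBlock_sum_right (fun m => g ⟨l, j⟩ ⟨k, m⟩) i, ext_apply g l k j i]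
    congr 1
    split_ifs with h
    · rw [ext, dif_pos ⟨j.2, h⟩]
    · rw [ext, dif_neg fun h' => h h'.2]
  · intro m _ hm
    exact Finset.sum_eq_zero fun x _ => by
      rw [Cfsg.jordanTypeMatrix, blockDiagonal'_apply_ne _ _ _ hm, mul_zero]
  · simp

lemma jordan_mul (g : Matrix (Idx d) (Idx d) F) (l k : Fin t) (j : Fin (d l)) (i : Fin (d k)) :
    (Cfsg.jordanTypeMatrix d F * g) ⟨l, j⟩ ⟨k, i⟩ =
      ext g l k j i + if 0 < (j : ℕ) then ext g l k (j - 1) i else 0 := by
  rw [Matrix.mul_apply, Fintype.sum_sigma, Finset.sum_eq_single l]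
  · simp only [Cfsg.jordanTypeMatrix, blockDiagonal'_apply_eq]
    rw [jordanBlock_sum_left (fun m => g ⟨l, m⟩ ⟨k, i⟩) j, ext_apply g l k j i]
    congr 1
    split_ifs with h
    · exact ext_apply g l k ⟨(j : ℕ) - 1, _⟩ i
    · rfl
  · intro m _ hm
    exact Finset.sum_eq_zero fun x _ => by
      rw [Cfsg.jordanTypeMatrix, blockDiagonal'_apply_ne _ _ _ (Ne.symm hm), zero_mul]
  · simp

lemma jordan_mulVec (x : Idx d → F) (k : Fin t) (i : Fin (d k)) :
    (Cfsg.jordanTypeMatrix d F *ᵥ x) ⟨k, i⟩ =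
      x ⟨k, i⟩ + if 0 < (i : ℕ) then x ⟨k, i - 1, by omega⟩ else 0 := by
  rw [Matrix.mulVec, dotProduct, Fintype.sum_sigma, Finset.sum_eq_single k]
  · simp only [Cfsg.jordanTypeMatrix, blockDiagonal'_apply_eq]
    rw [jordanBlock_sum_left (fun m => x ⟨k, m⟩) i]
  · intro m _ hm
    exact Finset.sum_eq_zero fun y _ => by
      rw [Cfsg.jordanTypeMatrix, blockDiagonal'_apply_ne _ _ _ (Ne.symm hm), zero_mul]
  · simp

/-- the matrix with prescribed coefficients -/
def ofCoeff (e : Fin t → Fin t → ℕ → F) : Matrix (Idx d) (Idx d) F :=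
  Matrix.of fun p q => e q.1 p.1 (d p.1 - 1 - (p.2 : ℕ) + (q.2 : ℕ))

/-- admissible coefficient families -/
def Adm (d : Fin t → ℕ) (e : Fin t → Fin t → ℕ → F) : Prop :=
  ∀ k l s, d k ≤ s ∨ d l ≤ s → e k l s = 0

lemma commute_ofCoeff {e : Fin t → Fin t → ℕ → F} (he : Adm d e) :
    ofCoeff e * Cfsg.jordanTypeMatrix d F = Cfsg.jordanTypeMatrix d F * ofCoeff e := by
  ext ⟨l, j⟩ ⟨k, i⟩
  rw [mul_jordan, jordan_mul]
  congr 1
  have hl : ∀ a, d k ≤ a ∨ d l ≤ a → e k l a = 0 := fun a => he k l a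
  by_cases hj : 0 < (j : ℕ)
  · rw [if_pos hj]
    by_cases hi : (i : ℕ) + 1 < d k
    · rw [ext, dif_pos ⟨j.2, hi⟩, ext, dif_pos ⟨by omega, i.2⟩]
      simp only [ofCoeff, of_apply]
      congr 1
      omega
    · rw [ext, dif_neg (fun h => hi h.2), ext, dif_pos ⟨by omega, i.2⟩]
      simp only [ofCoeff, of_apply]
      exact (hl _ (Or.inl (by omega))).symm
  · rw [if_neg hj]
    by_cases hi : (i : ℕ) + 1 < d k
    · rw [ext, dif_pos ⟨j.2, hi⟩]
      simp only [ofCoeff, of_apply]
      exact hl _ (Or.inr (by omega))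
    · rw [ext, dif_neg (fun h => hi h.2)]

/-- coefficients of a commuting matrix -/
def coeff (g : Matrix (Idx d) (Idx d) F) (k l : Fin t) (s : ℕ) : F :=
  if s < d k ∧ s < d l then ext g l k (d l - 1 - s) 0 else 0

lemma adm_coeff (g : Matrix (Idx d) (Idx d) F) : Adm d (coeff g) := by
  intro k l s h
  rw [coeff, if_neg (by omega)]

lemma eq_ofCoeff {g : Matrix (Idx d) (Idx d) F}
    (hc : g * Cfsg.jordanTypeMatrix d F = Cfsg.jordanTypeMatrix d F * g) :
    g = ofCoeff (coeff g) := by
  have rel : ∀ l k (j i : ℕ), j < d l → i < d k →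
      ext g l k j (i + 1) = if 0 < j then ext g l k (j - 1) i else 0 := by
    intro l k j i hj hi
    have h := congrFun (congrFun hc ⟨l, j, hj⟩) ⟨k, i, hi⟩
    rw [mul_jordan, jordan_mul] at h
    exact add_left_cancel h
  have shift : ∀ l k (i j : ℕ), i < d k → j < d l →
      ext g l k j i = if i ≤ j then ext g l k (j - i) 0 else 0 := by
    intro l k i
    induction i with
    | zero => intro j _ _; simp
    | succ i ih =>
      intro j hi hj
      rw [rel l k j i hj (by omega)]
      by_cases h0 : 0 < j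
      · rw [if_pos h0, ih (j - 1) (by omega) (by omega), show j - 1 - i = j - (i + 1) by omega]
        split_ifs <;> first | omega | rfl
      · rw [if_neg h0, if_neg (by omega)]
  ext ⟨l, j⟩ ⟨k, i⟩
  rw [ext_apply g l k j i, shift l k i j i.2 j.2]
  simp only [ofCoeff, of_apply, coeff]
  have hj := j.2
  have hi := i.2
  by_cases hij : (i : ℕ) ≤ j
  · rw [if_pos hij]
    by_cases hs : d l - 1 - (j : ℕ) + i < d k
    · rw [if_pos ⟨hs, by omega⟩, show d l - 1 - (d l - 1 - (j : ℕ) + i) = j - i by omega]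
    · rw [if_neg (fun h => hs h.1)]
      -- move down to the last column
      have h1 := shift l k (d k - 1) (j - i + (d k - 1)) (by omega) (by omega)
      rw [if_pos (by omega), show (j : ℕ) - i + (d k - 1) - (d k - 1) = j - i by omega] at h1
      rw [← h1]
      have h2 := rel l k (j - i + (d k - 1) + 1) (d k - 1) (by omega) (by omega)
      rw [if_pos (Nat.succ_pos _), show (j : ℕ) - i + (d k - 1) + 1 - 1 = j - i + (d k - 1) by omega] at h2
      rw [← h2, ext, dif_neg (by omega)]
  · rw [if_neg hij, if_neg (by omega)]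

/-- the matrix induced on the kernel of the nilpotent part, transposed -/
def socle (d : Fin t → ℕ) (e : Fin t → Fin t → ℕ → F) : Matrix (Fin t) (Fin t) F :=
  Matrix.of fun k l => e k l (d k - 1)

lemma ofCoeff_mulVec_bottom (hd : ∀ k, 1 ≤ d k) {e : Fin t → Fin t → ℕ → F} (he : Adm d e)
    (x : Idx d → F) (hx : ∀ k (i : Fin (d k)), (i : ℕ) + 1 < d k → x ⟨k, i⟩ = 0) (l : Fin t) (j : Fin (d l)) :
    (ofCoeff e *ᵥ x) ⟨l, j⟩ = if (j : ℕ) + 1 = d l then
      ((socle d e)ᵀ *ᵥ fun k => x ⟨k, d k - 1, by have := hd k; omega⟩) l else 0 := by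
  have h0 : (ofCoeff e *ᵥ x) ⟨l, j⟩ =
      ∑ k, e k l (d l - 1 - (j : ℕ) + (d k - 1)) * x ⟨k, d k - 1, by have := hd k; omega⟩ := by
    rw [Matrix.mulVec, dotProduct, Fintype.sum_sigma]
    refine Finset.sum_congr rfl fun k _ => ?_
    rw [Finset.sum_eq_single (⟨d k - 1, by have := hd k; omega⟩ : Fin (d k))]
    · simp [ofCoeff]
    · intro i _ hi
      rw [hx k i (by
        have := i.2
        have : (i : ℕ) ≠ d k - 1 := fun h => hi (Fin.ext h)
        omega), mul_zero]
    · simp
  rw [h0]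
  have hj := j.2
  split_ifs with h
  · simp only [Matrix.mulVec, dotProduct, socle, transpose_apply, of_apply]
    refine Finset.sum_congr rfl fun k _ => ?_
    rw [show d l - 1 - (j : ℕ) + (d k - 1) = d k - 1 by omega]
  · refine Finset.sum_eq_zero fun k _ => ?_
    rw [he k l _ (Or.inl (by omega)), zero_mul]

lemma isUnit_ofCoeff (hd : ∀ k, 1 ≤ d k) {e : Fin t → Fin t → ℕ → F} (he : Adm d e) :
    IsUnit (ofCoeff (d := d) e) ↔ (socle d e).det ≠ 0 := by
  classical
  constructor
  · intro hU hdet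
    obtain ⟨v, hv0, hv⟩ := exists_mulVec_eq_zero_iff.2
      (show ((socle d e)ᵀ).det = 0 by rw [det_transpose, hdet])
    let x : Idx d → F := fun p => if (p.2 : ℕ) + 1 = d p.1 then v p.1 else 0
    have hx : ∀ k (i : Fin (d k)), (i : ℕ) + 1 < d k → x ⟨k, i⟩ = 0 := fun k i h => if_neg (by simp only; omega)
    have hxb : (fun k => x ⟨k, d k - 1, by have := hd k; omega⟩) = v := funext fun k => if_pos (by
      have := hd k; simp only; omega)
    have hgx : ofCoeff (d := d) e *ᵥ x = 0 := by
      funext ⟨l, j⟩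
      rw [ofCoeff_mulVec_bottom hd he x hx, hxb, hv]
      simp
    have := (Matrix.mulVec_injective_of_isUnit hU) (hgx.trans (mulVec_zero _).symm)
    refine hv0 ?_
    rw [← hxb, this]
    rfl
  · intro hdet
    rw [← Matrix.mulVec_injective_iff_isUnit]
    have key : ∀ M : ℕ, ∀ x : Idx d → F, (∀ k (i : Fin (d k)), M ≤ d k - 1 - (i : ℕ) → x ⟨k, i⟩ = 0) →
        ofCoeff (d := d) e *ᵥ x = 0 → x = 0 := by
      intro M
      induction M with
      | zero => intro x hx _; funext ⟨k, i⟩; exact hx k i (Nat.zero_le _)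
      | succ M ih =>
        intro x hx hgx
        have hN := ih (Cfsg.jordanTypeMatrix d F *ᵥ x - x) (fun k i hi => by
          rw [Pi.sub_apply, jordan_mulVec, add_sub_cancel_left]
          split_ifs with h
          · exact hx k _ (by simp only; omega)
          · rfl) (by
          rw [mulVec_sub, mulVec_mulVec, commute_ofCoeff he, ← mulVec_mulVec, hgx, mulVec_zero, sub_zero])
        have hxbot : ∀ k (i : Fin (d k)), (i : ℕ) + 1 < d k → x ⟨k, i⟩ = 0 := by
          intro k i hi
          have h := congrFun hN ⟨k, (i : ℕ) + 1, hi⟩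
          rw [Pi.sub_apply, jordan_mulVec, add_sub_cancel_left, if_pos (Nat.succ_pos _)] at h
          simpa using h
        have hv : (socle d e)ᵀ *ᵥ (fun k => x ⟨k, d k - 1, by have := hd k; omega⟩) = 0 := by
          funext l
          have h := congrFun hgx ⟨l, d l - 1, by have := hd l; omega⟩
          rw [ofCoeff_mulVec_bottom hd he x hxbot, if_pos (by have := hd l; simp only; omega)] at h
          exact h
        have hv0 := Matrix.eq_zero_of_mulVec_eq_zero (by rw [det_transpose]; exact hdet) hv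
        funext ⟨k, i⟩
        by_cases hi : (i : ℕ) + 1 < d k
        · exact hxbot k i hi
        · have hi2 := i.2
          have h := congrFun hv0 k
          rwa [show (⟨d k - 1, by omega⟩ : Fin (d k)) = i from Fin.ext (by simp only; omega)] at h
    intro x y hxy
    rw [← sub_eq_zero]
    refine key (Finset.univ.sup d + 1) _ (fun k i hi => ?_) (by rw [mulVec_sub, hxy, sub_self])
    have := Finset.le_sup (f := d) (Finset.mem_univ k)
    omega

section count

variable (d)

/-- free coefficients between blocks `k` and `l` -/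
def nfree (kl : Fin t × Fin t) : ℕ := min (d kl.1) (d kl.2) - if d kl.1 = d kl.2 then 1 else 0

/-- parameters -/
abbrev Params (F : Type*) [Field F] :=
  ((kl : Fin t × Fin t) → Fin (nfree d kl) → F) ×
    ((i : Fin (Finset.univ.sup d + 1)) → GL {k : Fin t // d k = (i : ℕ)} F)

/-- coefficients from parameters -/
def mkCoeff (P : Params d F) (k l : Fin t) (s : ℕ) : F :=
  if h : s < nfree d (k, l) then P.1 (k, l) ⟨s, h⟩
  else if h' : d l = d k ∧ s + 1 = d k then
    (P.2 ⟨d k, Nat.lt_succ_of_le (Finset.le_sup (Finset.mem_univ k))⟩ :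
      Matrix {m : Fin t // d m = d k} {m : Fin t // d m = d k} F) ⟨k, rfl⟩ ⟨l, h'.1⟩
  else 0

lemma adm_mkCoeff (P : Params d F) : Adm d (mkCoeff d P) := by
  intro k l s h
  have h1 : ¬ s < nfree d (k, l) := by simp only [nfree]; omega
  rw [mkCoeff, dif_neg h1, dif_neg (by omega)]

lemma toSquareBlock_socle (hd : ∀ k, 1 ≤ d k) (P : Params d F) (i : Fin (Finset.univ.sup d + 1)) :
    (socle d (mkCoeff d P)).toSquareBlock d (i : ℕ) =
      (P.2 i : Matrix {k : Fin t // d k = (i : ℕ)} {k : Fin t // d k = (i : ℕ)} F) := by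
  obtain ⟨a, ha⟩ := i
  ext ⟨k, hk⟩ ⟨l, hl⟩
  simp only at hk hl
  subst hk
  have := hd k
  have h1 : ¬ (d k - 1 < nfree d (k, l)) := by simp only [nfree, hl, if_true]; omega
  simp only [toSquareBlock_def, socle, of_apply, mkCoeff]
  rw [dif_neg h1, dif_pos ⟨hl, by omega⟩]

lemma socle_blockTriangular {e : Fin t → Fin t → ℕ → F} (he : Adm d e) : (socle d e).BlockTriangular d := by
  intro k l hlt
  exact he k l _ (Or.inr (by omega))

lemma det_socle_ne_zero_iff {e : Fin t → Fin t → ℕ → F} (he : Adm d e) :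
    (socle d e).det ≠ 0 ↔ ∀ i : Fin (Finset.univ.sup d + 1), ((socle d e).toSquareBlock d (i : ℕ)).det ≠ 0 := by
  classical
  rw [(socle_blockTriangular d he).det, Finset.prod_ne_zero_iff]
  constructor
  · intro h i
    by_cases hi : (i : ℕ) ∈ Finset.univ.image d
    · exact h _ hi
    · haveI : IsEmpty {k : Fin t // d k = (i : ℕ)} :=
        ⟨fun k => hi (Finset.mem_image.2 ⟨k.1, Finset.mem_univ _, k.2⟩)⟩
      rw [det_isEmpty]
      exact one_ne_zero
  · intro h a ha
    obtain ⟨k, -, rfl⟩ := Finset.mem_image.1 ha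
    exact h ⟨d k, Nat.lt_succ_of_le (Finset.le_sup (Finset.mem_univ k))⟩

theorem card_commutant [Fintype F] (hd : ∀ k, 1 ≤ d k) :
    Nat.card {g : GL (Idx d) F //
      (g : Matrix (Idx d) (Idx d) F) * Cfsg.jordanTypeMatrix d F = Cfsg.jordanTypeMatrix d F * g} =
    Nat.card (Params d F) := by
  classical
  have hu : ∀ P : Params d F, IsUnit (ofCoeff (d := d) (mkCoeff d P)) := fun P => by
    rw [isUnit_ofCoeff hd (adm_mkCoeff d P), det_socle_ne_zero_iff d (adm_mkCoeff d P)]
    intro i
    rw [toSquareBlock_socle d hd P i]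
    exact (Matrix.GeneralLinearGroup.det (P.2 i)).ne_zero
  refine (Nat.card_eq_of_bijective
    (fun P : Params d F => (⟨(hu P).unit, commute_ofCoeff (adm_mkCoeff d P)⟩ : {g : GL (Idx d) F //
      (g : Matrix (Idx d) (Idx d) F) * Cfsg.jordanTypeMatrix d F = Cfsg.jordanTypeMatrix d F * g}))
    ⟨?_, ?_⟩).symm
  · intro P Q h
    have h' : ofCoeff (d := d) (mkCoeff d P) = ofCoeff (mkCoeff d Q) :=
      congrArg (fun g => ((g.1 : GL (Idx d) F) : Matrix (Idx d) (Idx d) F)) h
    have he : mkCoeff d P = mkCoeff d Q := by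
      funext k l s
      by_cases hs : d k ≤ s ∨ d l ≤ s
      · rw [adm_mkCoeff d P k l s hs, adm_mkCoeff d Q k l s hs]
      · have := congrFun (congrFun h' ⟨l, d l - 1 - s, by omega⟩) ⟨k, 0, by omega⟩
        simpa [ofCoeff, show d l - 1 - (d l - 1 - s) = s by omega] using this
    refine Prod.ext (funext fun ⟨k, l⟩ => funext fun ⟨s, hs⟩ => ?_) (funext fun i => ?_)
    · have := congrFun (congrFun (congrFun he k) l) s
      simpa [mkCoeff, hs] using this
    · exact Units.ext (by rw [← toSquareBlock_socle d hd P i, ← toSquareBlock_socle d hd Q i, he])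
  · rintro ⟨g, hg⟩
    have he := adm_coeff (g : Matrix (Idx d) (Idx d) F)
    have hge := eq_ofCoeff hg
    have hdet : (socle d (coeff (g : Matrix (Idx d) (Idx d) F))).det ≠ 0 :=
      (isUnit_ofCoeff hd he).1 (hge ▸ g.isUnit)
    let P : Params d F := (fun kl s => coeff (g : Matrix (Idx d) (Idx d) F) kl.1 kl.2 s,
      fun i => GeneralLinearGroup.mkOfDetNeZero _ ((det_socle_ne_zero_iff d he).1 hdet i))
    refine ⟨P, Subtype.ext (Units.ext ?_)⟩
    show ofCoeff (mkCoeff d P) = (g : Matrix (Idx d) (Idx d) F)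
    conv_rhs => rw [hge]
    congr 1
    funext k l s
    simp only [mkCoeff]
    split_ifs with h1 h2
    · rfl
    · obtain ⟨h2, h3⟩ := h2
      show coeff _ k l (d k - 1) = _
      rw [show d k - 1 = s by omega]
    · refine (he k l s ?_).symm
      simp only [nfree] at h1
      split_ifs at h1 with h4
      · omega
      · omega

lemma card_GL' [Fintype F] (ι : Type) [Fintype ι] [DecidableEq ι] :
    Nat.card (GL ι F) =
      ∏ j : Fin (Fintype.card ι), (Fintype.card F ^ Fintype.card ι - Fintype.card F ^ (j : ℕ)) := by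
  rw [← Matrix.card_GL_field]
  exact Nat.card_congr (Units.mapEquiv
    (Matrix.reindexAlgEquiv F F (Fintype.equivFin ι)).toMulEquiv).toEquiv

lemma sum_comp_count (f : ℕ → ℕ) :
    ∑ k, f (d k) = ∑ i ∈ Finset.range (Finset.univ.sup d + 1), (Finset.univ.filter (fun k => d k = i)).card * f i := by
  rw [← Finset.sum_fiberwise_of_maps_to (g := d) (t := Finset.range (Finset.univ.sup d + 1))
    (fun k hk => Finset.mem_range.2 (Nat.lt_succ_of_le (Finset.le_sup hk)))]
  refine Finset.sum_congr rfl fun i _ => ?_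
  rw [Finset.sum_congr rfl (fun k hk => by rw [(Finset.mem_filter.1 hk).2]), Finset.sum_const, smul_eq_mul]

lemma sum_nfree :
    ∑ kl : Fin t × Fin t, nfree d kl =
      2 * (∑ i ∈ Finset.range (Finset.univ.sup d + 1), ∑ j ∈ Finset.range (Finset.univ.sup d + 1),
        if i < j then i * (Finset.univ.filter (fun k : Fin t => d k = i)).card *
          (Finset.univ.filter (fun k : Fin t => d k = j)).card else 0) +
      ∑ i ∈ Finset.range (Finset.univ.sup d + 1),
        (i - 1) * (Finset.univ.filter (fun k : Fin t => d k = i)).card ^ 2 := by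
  set D := Finset.range (Finset.univ.sup d + 1)
  set a : ℕ → ℕ := fun i => (Finset.univ.filter (fun k : Fin t => d k = i)).card with ha
  let m : ℕ → ℕ → ℕ := fun i j => min i j - if i = j then 1 else 0
  have h1 : ∑ kl : Fin t × Fin t, nfree d kl = ∑ i ∈ D, ∑ j ∈ D, a i * (a j * m i j) := by
    rw [Fintype.sum_prod_type]
    show ∑ k, ∑ l, m (d k) (d l) = _
    rw [sum_comp_count d (fun i => ∑ l, m i (d l))]
    refine Finset.sum_congr rfl fun i _ => ?_
    rw [sum_comp_count d (m i), Finset.mul_sum]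
  rw [h1]
  have h2 : ∀ i j, a i * (a j * m i j) = (if i < j then i * a i * a j else 0) +
      (if j < i then j * a j * a i else 0) + (if i = j then (i - 1) * a i ^ 2 else 0) := by
    intro i j
    rcases lt_trichotomy i j with h | h | h
    · simp [m, h, h.ne, h.le, h.not_gt]; ring
    · subst h; simp [m]; ring
    · simp [m, h, h.ne', h.le, h.not_gt]; ring
  rw [Finset.sum_congr rfl fun i _ => Finset.sum_congr rfl fun j _ => h2 i j]
  simp only [Finset.sum_add_distrib]
  rw [Finset.sum_comm (s := D) (t := D) (f := fun i j => if j < i then j * a j * a i else 0), two_mul,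
    Finset.sum_congr rfl (fun i (hi : i ∈ D) => Finset.sum_ite_eq D i fun _ => (i - 1) * a i ^ 2)]
  congr 1
  exact Finset.sum_congr rfl fun i hi => if_pos hi

theorem card_centralizer [Fintype F] (hd : ∀ k, 1 ≤ d k) :
    Nat.card {g : GL (Idx d) F //
      (g : Matrix (Idx d) (Idx d) F) * Cfsg.jordanTypeMatrix d F = Cfsg.jordanTypeMatrix d F * g} =
    Fintype.card F ^ (2 * (∑ i ∈ Finset.range (Finset.univ.sup d + 1), ∑ j ∈ Finset.range (Finset.univ.sup d + 1),
        if i < j then i * (Finset.univ.filter (fun k : Fin t => d k = i)).card *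
          (Finset.univ.filter (fun k : Fin t => d k = j)).card else 0) +
      ∑ i ∈ Finset.range (Finset.univ.sup d + 1),
        (i - 1) * (Finset.univ.filter (fun k : Fin t => d k = i)).card ^ 2) *
    ∏ i ∈ Finset.range (Finset.univ.sup d + 1), ∏ j : Fin ((Finset.univ.filter (fun k : Fin t => d k = i)).card),
      (Fintype.card F ^ (Finset.univ.filter (fun k : Fin t => d k = i)).card - Fintype.card F ^ (j : ℕ)) := by
  classical
  rw [card_commutant d hd, Nat.card_prod, ← sum_nfree d]
  congr 1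
  · rw [Nat.card_pi, Finset.prod_congr rfl (fun kl _ => by
      rw [Nat.card_fun, Nat.card_eq_fintype_card, Nat.card_fin]), Finset.prod_pow_eq_pow_sum]
  · rw [Nat.card_pi, ← Fin.prod_univ_eq_prod_range]
    refine Finset.prod_congr rfl fun i _ => ?_
    rw [card_GL', ← Fintype.card_subtype]

end count

end Cfsg.Agent.Arith.JordanCent
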