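import Cfsg.Agent.Arith.PrimDiv

/-! Valuations of `q ^ n - 1`. -/

namespace Cfsg.Agent.Arith

lemma padicValNat_eq_one_of_mod_four {x : ℕ} (h : x % 4 = 2) : padicValNat 2 x = 1 := by
  obtain ⟨y, rfl⟩ : 2 ∣ x := by omega
  rw [padicValNat.mul (by norm_num) (by omega), padicValNat.self (by norm_num),
    padicValNat.eq_zero_of_not_dvd (by omega)]

lemma two_le_padicValNat_of_four_dvd {x : ℕ} (hx : x ≠ 0) (h : 4 ∣ x) : 2 ≤ padicValNat 2 x :=
  (padicValNat_dvd_iff_le hx).1 h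

lemma pow_sub_one_ne_zero {q n : ℕ} (hq : 2 ≤ q) (hn : n ≠ 0) : q ^ n - 1 ≠ 0 := by
  have := Nat.one_lt_pow hn (show 1 < q by omega); omega

lemma geom_mul_eq (q n : ℕ) (hq : 1 ≤ q) :
    (∑ i ∈ Finset.range n, q ^ i) * (q - 1) = q ^ n - 1 := by
  zify [hq, Nat.one_le_pow n q hq]
  exact geom_sum_mul (q : ℤ) n

lemma geom_mod_sub_one {q : ℕ} (hq : 1 ≤ q) (n : ℕ) :
    (∑ i ∈ Finset.range n, q ^ i) ≡ n [MOD q - 1] := by
  induction n with
  | zero => simp [Nat.ModEq]
  | succ k ih =>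
    rw [Finset.sum_range_succ]
    exact ih.add (by simpa using ((Nat.modEq_iff_dvd' hq).2 dvd_rfl).symm.pow k)

/-- LTE for `q ^ n - 1` at a prime dividing `q - 1`. -/
theorem padicValNat_pow_sub_one {r q n : ℕ} (hr : r.Prime) (hq : 2 ≤ q) (hn : n ≠ 0)
    (h : r ∣ q - 1) (h2 : r = 2 → 4 ∣ q - 1 ∨ ¬ 2 ∣ n) :
    padicValNat r (q ^ n - 1) = padicValNat r (q - 1) + padicValNat r n := by
  have hrq : ¬ r ∣ q := fun hd => by
    have := Nat.dvd_sub hd h
    rw [show q - (q - 1) = 1 by omega] at this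
    exact hr.ne_one (Nat.dvd_one.1 this)
  have := Fact.mk hr
  rcases hr.eq_two_or_odd' with rfl | hodd
  · by_cases hev : 2 ∣ n
    · have h4 : 4 ∣ q - 1 := (h2 rfl).resolve_right (not_not.2 hev)
      have hh := padicValNat.pow_two_sub_one (x := q) (n := n) (by omega) hrq hn
        (even_iff_two_dvd.2 hev)
      rw [padicValNat_eq_one_of_mod_four (show (q + 1) % 4 = 2 by omega)] at hh
      omega
    · rw [← geom_mul_eq q n (by omega), padicValNat.mul ?_ (by omega),
        padicValNat.eq_zero_of_not_dvd (n := ∑ i ∈ Finset.range n, q ^ i) ?_,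
        padicValNat.eq_zero_of_not_dvd hev, zero_add, add_zero]
      · intro hd
        exact hev ((((geom_mod_sub_one (by omega) n).of_dvd h).dvd_iff dvd_rfl).1 hd)
      · intro h0
        apply pow_sub_one_ne_zero hq hn
        rw [← geom_mul_eq q n (by omega), h0, zero_mul]
  · simpa using padicValNat.pow_sub_pow (p := r) hodd (by omega : 1 < q) (by simpa using h) hrq hn

/-- LTE at `2` for even exponents. -/
theorem padicValNat_two_pow_sub_one {q n : ℕ} (hq : 2 ≤ q) (hn : n ≠ 0) (hev : 2 ∣ n)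
    (hodd : ¬ 2 ∣ q) :
    padicValNat 2 (q ^ n - 1) + 1
      = padicValNat 2 (q + 1) + padicValNat 2 (q - 1) + padicValNat 2 n :=
  padicValNat.pow_two_sub_one (by omega) hodd hn (even_iff_two_dvd.2 hev)

lemma dvd_of_forall_padicValNat {a b : ℕ} (ha : a ≠ 0) (hb : b ≠ 0)
    (h : ∀ p, p.Prime → padicValNat p a ≤ padicValNat p b) : a ∣ b := by
  rw [← Nat.factorization_prime_le_iff_dvd ha hb]
  intro p hp
  rw [Nat.factorization_def a hp, Nat.factorization_def b hp]
  exact h p hp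

end Cfsg.Agent.Arith
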