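import Cfsg.Agent.Arith.PhiBound

/-! Large primitive divisors and Zsigmondy's theorem. -/

namespace Cfsg.Agent.Arith

instance isPrimDivDecidable (m q n : ℕ) : Decidable (IsPrimDiv m q n) :=
  decidable_of_iff (m ∣ q ^ n - 1 ∧ ∀ i : ℕ, i < n → 1 ≤ i → Nat.gcd m (q ^ i - 1) = 1)
    ⟨fun h => ⟨h.1, fun i h1 h2 => h.2 i h2 h1⟩, fun h => ⟨h.1, fun i h1 h2 => h.2 i h2 h1⟩⟩

lemma large_of_phiVal {n q R : ℕ} (hn : 3 ≤ n) (hq : 2 ≤ q) (hR : 1 ≤ R)
    (hs : ∀ s, s.Prime → s ∣ n → s ≤ R) (h : R * (3 * n + 1) ≤ phiVal n q) :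
    ∃ m, IsPrimDiv m q n ∧ 3 * n + 1 ≤ m := by
  rcases exists_primDiv hn hq with h1 | ⟨r, m, hr, hrn, -, hm, h1⟩
  · exact ⟨_, h1, (Nat.le_mul_of_pos_left _ hR).trans h⟩
  · refine ⟨m, h1, Nat.le_of_mul_le_mul_left ?_ hr.pos⟩
    rw [← hm]
    exact (Nat.mul_le_mul_right _ (hs r hr hrn)).trans h

lemma bound_B {r : ℕ} (hr : 7 ≤ r) : 6 * r ≤ (2 ^ r - 1) / 3 := by
  rw [Nat.le_div_iff_mul_le (by norm_num)]
  suffices 18 * r + 1 ≤ 2 ^ r by omega
  induction r, hr using Nat.le_induction with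
  | base => norm_num
  | succ k hk ih => rw [pow_succ]; omega

lemma bound_B' {r : ℕ} (hr : 13 ≤ r) : 7 * r ^ 2 ≤ (2 ^ r - 1) / 3 := by
  rw [Nat.le_div_iff_mul_le (by norm_num)]
  suffices 21 * r ^ 2 + 1 ≤ 2 ^ r by omega
  induction r, hr using Nat.le_induction with
  | base => norm_num
  | succ k hk ih => rw [pow_succ 2]; nlinarith

lemma sq_le_two_pow_sub_one {r : ℕ} (hr : 5 ≤ r) : r ^ 2 ≤ 2 ^ r - 1 := by
  suffices r ^ 2 + 1 ≤ 2 ^ r by omega
  induction r, hr using Nat.le_induction with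
  | base => norm_num
  | succ k hk ih => rw [pow_succ 2]; nlinarith

lemma seven_sq_le_pow {B t : ℕ} (hB : 31 ≤ B) (ht : 4 ≤ t) : 7 * t ^ 2 ≤ B ^ (t - 1) := by
  refine le_trans ?_ (Nat.pow_le_pow_left hB _)
  induction t, ht using Nat.le_induction with
  | base => norm_num
  | succ k hk ih =>
    rw [show k + 1 - 1 = (k - 1) + 1 by omega, pow_succ 31]; nlinarith

lemma seven_sq_le_pow' {B t : ℕ} (hB : 10 ≤ B) (ht : 4 ≤ t) : 175 * t ^ 2 ≤ B ^ t := by
  refine le_trans ?_ (Nat.pow_le_pow_left hB _)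
  induction t, ht using Nat.le_induction with
  | base => norm_num
  | succ k hk ih => rw [pow_succ 10]; nlinarith

lemma seven_sq_le_pow'' {B t : ℕ} (hB : 42 ≤ B) (ht : 2 ≤ t) :
    7 * t ^ 2 ≤ 36 * B ^ (t - 2) := by
  refine le_trans ?_ (Nat.mul_le_mul_left _ (Nat.pow_le_pow_left hB _))
  induction t, ht using Nat.le_induction with
  | base => norm_num
  | succ k hk ih =>
    rw [show k + 1 - 2 = (k - 2) + 1 by omega, pow_succ 42]; nlinarith

lemma div_mul_le_pow_sub_one {r q : ℕ} (hr : 2 ≤ r) (hq : 2 ≤ q) :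
    (2 ^ r - 1) / 3 * (q + 1) ≤ q ^ r - 1 := by
  obtain ⟨s, rfl⟩ : ∃ s, r = s + 1 := ⟨r - 1, by omega⟩
  have hq1 : 1 ≤ q ^ (s + 1) := Nat.one_le_pow _ _ (by omega)
  have h3 : 3 * ((2 ^ (s + 1) - 1) / 3) ≤ 2 ^ (s + 1) - 1 := Nat.mul_div_le _ _
  have h2 : 2 ^ s ≤ q ^ s := Nat.pow_le_pow_left hq s
  generalize (2 ^ (s + 1) - 1) / 3 = B at h3
  rw [pow_succ] at h3 hq1 ⊢
  have hpos : 2 ≤ 2 ^ s := Nat.le_self_pow (by omega) 2
  zify [hq1, (by omega : 1 ≤ 2 ^ s * 2)] at h3 h2 hpos ⊢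
  nlinarith [(by exact_mod_cast hq : (2 : ℤ) ≤ q), (Int.natCast_nonneg B)]

/-- Ratio bound for `Φ (m * r)`, `r ∤ m`. -/
lemma pow_le_phiVal_mul {m r q : ℕ} (hm : 0 < m) (hr : r.Prime) (hrm : ¬ r ∣ m) (hq : 2 ≤ q) :
    ((2 ^ r - 1) / 3) ^ m.totient ≤ phiVal (m * r) q := by
  refine Nat.le_of_mul_le_mul_right ?_ (pow_pos (by omega : 0 < q + 1) m.totient)
  calc ((2 ^ r - 1) / 3) ^ m.totient * (q + 1) ^ m.totient
      = ((2 ^ r - 1) / 3 * (q + 1)) ^ m.totient := (mul_pow ..).symm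
    _ ≤ (q ^ r - 1) ^ m.totient := Nat.pow_le_pow_left (div_mul_le_pow_sub_one hr.two_le hq) _
    _ ≤ phiVal m (q ^ r) := pow_totient_le_phiVal hm (le_trans hq (Nat.le_self_pow hr.ne_zero q))
    _ = phiVal (m * r) q * phiVal m q := (phiVal_mul_of_not_dvd hr hrm).symm
    _ ≤ phiVal (m * r) q * (q + 1) ^ m.totient := Nat.mul_le_mul_left _ (phiVal_le_pow_totient hq)

def smallList : List ℕ := [3, 4, 5, 6, 7, 8, 9, 10, 11, 12, 14, 15, 18, 20, 22, 30]

lemma large_or_small_of_five_le {n r q : ℕ} (hn : 3 ≤ n) (hq : 2 ≤ q) (hr : r.Prime) (hrn : r ∣ n)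
    (hr5 : 5 ≤ r) (hmax : ∀ s, s.Prime → s ∣ n → s ≤ r) :
    r * (3 * n + 1) ≤ phiVal n q ∨ n ∈ smallList := by
  obtain ⟨m, rfl⟩ := hrn
  have hm : 0 < m := Nat.pos_of_ne_zero fun h => by simp [h] at hn
  have hφ := (le_totient_sq m).1
  have htpos := Nat.totient_pos.2 hm
  generalize ht : m.totient = t at hφ htpos
  have hT : r * (3 * (r * m) + 1) ≤ 7 * r ^ 2 * t ^ 2 := by
    have h1 := Nat.mul_le_mul_left (3 * r ^ 2) hφ
    have h2 : 1 ≤ t ^ 2 := Nat.one_le_pow _ _ htpos
    nlinarith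
  by_cases hrm : r ∣ m
  · left
    have ht4 : r - 1 ≤ t := by
      rw [← ht, ← Nat.totient_prime hr]
      exact Nat.le_of_dvd (Nat.totient_pos.2 hm) (Nat.totient_dvd_of_dvd hrm)
    have hle : (2 ^ r - 1) ^ t ≤ phiVal (r * m) q := by
      rw [mul_comm r m, phiVal_mul_of_dvd hr hrm, ← ht]
      exact (Nat.pow_le_pow_left (Nat.sub_le_sub_right (Nat.pow_le_pow_left hq r) 1) _).trans
        (pow_totient_le_phiVal hm (le_trans hq (Nat.le_self_pow hr.ne_zero q)))
    refine le_trans hT (le_trans ?_ hle)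
    have hB := sq_le_two_pow_sub_one hr5
    calc 7 * r ^ 2 * t ^ 2 = r ^ 2 * (7 * t ^ 2) := by ring
      _ ≤ (2 ^ r - 1) * (2 ^ r - 1) ^ (t - 1) := Nat.mul_le_mul hB (seven_sq_le_pow
          (le_trans (by norm_num) (Nat.sub_le_sub_right (Nat.pow_le_pow_right two_pos hr5) 1))
          (by omega))
      _ = (2 ^ r - 1) ^ t := by rw [← pow_succ', Nat.sub_add_cancel htpos]
  · have hle : ((2 ^ r - 1) / 3) ^ t ≤ phiVal (r * m) q := by
      rw [mul_comm r m, ← ht]; exact pow_le_phiVal_mul hm hr hrm hq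
    rcases (show t = 1 ∨ 2 ≤ t by omega) with rfl | ht2
    · have hm2 : m ≤ 2 := by simpa using hφ
      rcases lt_or_ge r 13 with h | h
      · right
        have : r = 5 ∨ r = 7 ∨ r = 11 := by
          interval_cases r <;> first | omega | exact absurd hr (by decide)
        rcases this with rfl | rfl | rfl <;> interval_cases m <;> decide
      · left
        have := bound_B' h
        rw [pow_one] at hle
        rw [one_pow, mul_one] at hT
        omega
    · rcases (show r = 5 ∨ r = 6 ∨ 7 ≤ r by omega) with rfl | rfl | hr7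
      · norm_num at hle
        rcases lt_or_ge t 4 with h | h
        · right
          have hm18 : m ≤ 18 := by
            have := Nat.pow_le_pow_left (show t ≤ 3 by omega) 2; omega
          have hev : Even t := ht ▸ Nat.totient_even (by
            by_contra hh; interval_cases m <;> simp at ht <;> omega)
          obtain rfl : t = 2 := by obtain ⟨c, rfl⟩ := hev; omega
          have hm8 : m ≤ 8 := by omega
          interval_cases m <;> first | decide | exact absurd ht (by decide)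
        · left
          have := seven_sq_le_pow' (B := 10) le_rfl h
          omega
      · exact absurd hr (by decide)
      · left
        refine le_trans hT (le_trans ?_ hle)
        have hB := bound_B hr7
        calc 7 * r ^ 2 * t ^ 2 = r ^ 2 * (7 * t ^ 2) := by ring
          _ ≤ r ^ 2 * (36 * ((2 ^ r - 1) / 3) ^ (t - 2)) :=
              Nat.mul_le_mul_left _ (seven_sq_le_pow'' (by omega) ht2)
          _ = (6 * r) ^ 2 * ((2 ^ r - 1) / 3) ^ (t - 2) := by ring
          _ ≤ ((2 ^ r - 1) / 3) ^ 2 * ((2 ^ r - 1) / 3) ^ (t - 2) :=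
              Nat.mul_le_mul_right _ (Nat.pow_le_pow_left hB 2)
          _ = _ := by rw [← pow_add, Nat.add_sub_cancel' ht2]

lemma pow_ineq_two {j : ℕ} (hj : 8 ≤ j) : 12 * j + 1 ≤ 2 ^ j := by
  induction j, hj using Nat.le_induction with
  | base => norm_num
  | succ k hk ih => rw [pow_succ]; omega

lemma pow_ineq_three {j : ℕ} (hj : 9 ≤ j) : 27 * j + 3 ≤ 2 ^ j := by
  induction j, hj using Nat.le_induction with
  | base => norm_num
  | succ k hk ih => rw [pow_succ]; omega

lemma pow_ineq_six {j : ℕ} (hj : 4 ≤ j) : 54 * j + 3 + 2 ^ j ≤ 2 ^ j * 2 ^ j + 1 := by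
  induction j, hj using Nat.le_induction with
  | base => norm_num
  | succ k hk ih =>
    rw [pow_succ]
    have := Nat.lt_two_pow_self (n := k)
    nlinarith

lemma exists_eq_of_primes_le_three : ∀ n : ℕ, n ≠ 0 → (∀ s, s.Prime → s ∣ n → s ≤ 3) →
    ∃ a b, n = 2 ^ a * 3 ^ b := by
  intro n
  induction n using induction_on_primes with
  | zero => simp
  | one => exact fun _ _ => ⟨0, 0, rfl⟩
  | prime_mul p c hp ih =>
    intro h0 h
    obtain ⟨a, b, rfl⟩ := ih (by rintro rfl; simp at h0) (fun s hs hd => h s hs (hd.mul_left p))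
    have h2 := hp.two_le
    have h3 := h p hp (dvd_mul_right _ _)
    rcases (show p = 2 ∨ p = 3 by omega) with rfl | rfl
    · exact ⟨a + 1, b, by ring⟩
    · exact ⟨a, b + 1, by ring⟩

lemma large_or_small {n q : ℕ} (hn : 3 ≤ n) (hq : 2 ≤ q) :
    (∃ m, IsPrimDiv m q n ∧ 3 * n + 1 ≤ m) ∨ n ∈ smallList := by
  have hne : n.primeFactors.Nonempty := Nat.nonempty_primeFactors.2 (by omega)
  obtain ⟨r, hrmem, hmax⟩ := n.primeFactors.exists_max_image id hne
  rw [Nat.mem_primeFactors] at hrmem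
  obtain ⟨hr, hrn, -⟩ := hrmem
  have hmax' : ∀ s, s.Prime → s ∣ n → s ≤ r := fun s hs hd =>
    hmax s (Nat.mem_primeFactors.2 ⟨hs, hd, by omega⟩)
  rcases le_or_gt 5 r with h5 | h5
  · exact (large_or_small_of_five_le hn hq hr hrn h5 hmax').imp_left
      (large_of_phiVal hn hq hr.one_le hmax')
  have h3 : ∀ s, s.Prime → s ∣ n → s ≤ 3 := fun s hs hd => by
    have := hmax' s hs hd
    rcases Nat.lt_or_ge r 4 with h | h
    · omega
    · obtain rfl : r = 4 := by omega
      exact absurd hr (by decide)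
  obtain ⟨a, b, rfl⟩ := exists_eq_of_primes_le_three n (by omega) h3
  have hxy : ∀ j, 2 ^ j ≤ q ^ j := fun j => Nat.pow_le_pow_left hq j
  rcases eq_or_ne b 0 with rfl | hb
  · -- a power of two
    simp only [pow_zero, mul_one] at *
    rcases lt_or_ge a 4 with h | h
    · right; interval_cases a <;> first | decide | omega
    · refine Or.inl (large_of_phiVal hn hq one_le_two (fun s hs hd =>
        le_of_eq ((Nat.prime_dvd_prime_iff_eq hs Nat.prime_two).1 (hs.dvd_of_dvd_pow hd))) ?_)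
      obtain ⟨k, rfl⟩ : ∃ k, a = k + 1 := ⟨a - 1, by omega⟩
      rw [pow_succ', phiVal_mul_pow_of_dvd Nat.prime_two dvd_rfl, phiVal_two]
      have := pow_ineq_two (j := 2 ^ k) (le_trans (by norm_num)
        (Nat.pow_le_pow_right two_pos (show 3 ≤ k by omega)))
      have := hxy (2 ^ k)
      omega
  rcases eq_or_ne a 0 with rfl | ha
  · -- a power of three
    simp only [pow_zero, one_mul] at *
    rcases lt_or_ge b 3 with h | h
    · right; interval_cases b <;> first | decide | omega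
    · refine Or.inl (large_of_phiVal hn hq (by norm_num) h3 ?_)
      obtain ⟨k, rfl⟩ : ∃ k, b = k + 1 := ⟨b - 1, by omega⟩
      rw [pow_succ', phiVal_mul_pow_of_dvd Nat.prime_three dvd_rfl, phiVal_three]
      have := pow_ineq_three (j := 3 ^ k) (le_trans (by norm_num)
        (Nat.pow_le_pow_right three_pos (show 2 ≤ k by omega)))
      have h2 := hxy (3 ^ k)
      nlinarith
  -- both
  obtain ⟨c, rfl⟩ : ∃ k, a = k + 1 := ⟨a - 1, by omega⟩
  obtain ⟨d, rfl⟩ : ∃ k, b = k + 1 := ⟨b - 1, by omega⟩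
  have hnj : 2 ^ (c + 1) * 3 ^ (d + 1) = 6 * (2 ^ c * 3 ^ d) := by ring
  rw [hnj] at hn h3 hmax' ⊢
  rcases lt_or_ge (2 ^ c * 3 ^ d) 4 with h | h
  · right
    generalize 2 ^ c * 3 ^ d = j at h hn
    interval_cases j <;> first | decide | omega
  · refine Or.inl (large_of_phiVal hn hq (by norm_num) h3 ?_)
    have hval : phiVal (6 * (2 ^ c * 3 ^ d)) q = phiVal 6 (q ^ (2 ^ c * 3 ^ d)) := by
      rw [← mul_assoc, phiVal_mul_pow_of_dvd Nat.prime_three (dvd_mul_of_dvd_left (by norm_num) _),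
        phiVal_mul_pow_of_dvd Nat.prime_two (by norm_num), ← pow_mul, mul_comm (3 ^ d)]
    rw [hval]
    generalize 2 ^ c * 3 ^ d = j at h ⊢
    have h1 := pow_ineq_six h
    have h2 := hxy j
    have h16 : 16 ≤ 2 ^ j := le_trans (by norm_num) (Nat.pow_le_pow_right two_pos h)
    have := phiVal_six (q ^ j)
    zify at h1 h2 h16 ⊢
    push_cast at this
    rw [this]
    nlinarith

/-- Apart from thirteen pairs, `q ^ n - 1` has a primitive divisor `≥ 3 n + 1`. -/
theorem exists_large_primDiv {q n : ℕ} (hq : 2 ≤ q) (hn : 3 ≤ n)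
    (hex : (q, n) ∉ [(2, 6), (2, 4), (2, 10), (2, 12), (2, 18), (3, 4), (3, 6), (5, 6), (2, 3),
      (2, 8), (2, 20), (4, 3), (4, 6)]) :
    ∃ m, IsPrimDiv m q n ∧ 3 * n + 1 ≤ m := by
  rcases large_or_small hn hq with h | h
  · exact h
  have key : ∀ R c : ℕ, 1 ≤ R → (∀ s, s ≤ n → s.Prime → s ∣ n → s ≤ R) →
      R * (3 * n + 1) ≤ c ^ n.totient → (∃ m, IsPrimDiv m q n ∧ 3 * n + 1 ≤ m) ∨ q ≤ c := by
    intro R c hR hs hc
    rcases le_or_gt q c with hh | hh
    · exact Or.inr hh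
    · exact Or.inl (large_of_phiVal hn hq hR
        (fun s hs' hd => hs s (Nat.le_of_dvd (by omega) hd) hs' hd)
        (hc.trans ((Nat.pow_le_pow_left (by omega) _).trans
          (pow_totient_le_phiVal (by omega) hq))))
  have wit : ∀ m, IsPrimDiv m q n → 3 * n + 1 ≤ m → ∃ m, IsPrimDiv m q n ∧ 3 * n + 1 ≤ m :=
    fun m h1 h2 => ⟨m, h1, h2⟩
  simp only [smallList, List.mem_cons, List.not_mem_nil, or_false] at h
  rcases h with rfl | rfl | rfl | rfl | rfl | rfl | rfl | rfl | rfl | rfl | rfl | rfl | rfl | rfl | rfl | rfl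
  · rcases key 3 6 (by norm_num) (by decide) (by decide) with h' | h'
    · exact h'
    interval_cases q
    · exact absurd hex (by decide)
    · exact wit 13 (by decide) (by norm_num)
    · exact absurd hex (by decide)
    · exact wit 31 (by decide) (by norm_num)
    · exact wit 43 (by decide) (by norm_num)
  · rcases key 2 6 (by norm_num) (by decide) (by decide) with h' | h'
    · exact h'
    interval_cases q
    · exact absurd hex (by decide)
    · exact absurd hex (by decide)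
    · exact wit 17 (by decide) (by norm_num)
    · exact wit 13 (by decide) (by norm_num)
    · exact wit 37 (by decide) (by norm_num)
  · rcases key 5 3 (by norm_num) (by decide) (by decide) with h' | h'
    · exact h'
    interval_cases q
    · exact wit 31 (by decide) (by norm_num)
    · exact wit 121 (by decide) (by norm_num)
  · rcases key 3 8 (by norm_num) (by decide) (by decide) with h' | h'
    · exact h'
    interval_cases q
    · exact absurd hex (by decide)
    · exact absurd hex (by decide)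
    · exact absurd hex (by decide)
    · exact absurd hex (by decide)
    · exact wit 31 (by decide) (by norm_num)
    · exact wit 43 (by decide) (by norm_num)
    · exact wit 19 (by decide) (by norm_num)
  · rcases key 7 3 (by norm_num) (by decide) (by decide) with h' | h'
    · exact h'
    interval_cases q
    · exact wit 127 (by decide) (by norm_num)
    · exact wit 1093 (by decide) (by norm_num)
  · rcases key 2 3 (by norm_num) (by decide) (by decide) with h' | h'
    · exact h'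
    interval_cases q
    · exact absurd hex (by decide)
    · exact wit 41 (by decide) (by norm_num)
  · rcases key 3 3 (by norm_num) (by decide) (by decide) with h' | h'
    · exact h'
    interval_cases q
    · exact wit 73 (by decide) (by norm_num)
    · exact wit 757 (by decide) (by norm_num)
  · rcases key 5 4 (by norm_num) (by decide) (by decide) with h' | h'
    · exact h'
    interval_cases q
    · exact absurd hex (by decide)
    · exact wit 61 (by decide) (by norm_num)
    · exact wit 41 (by decide) (by norm_num)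
  · rcases key 11 2 (by norm_num) (by decide) (by decide) with h' | h'
    · exact h'
    interval_cases q
    · exact wit 2047 (by decide) (by norm_num)
  · rcases key 3 4 (by norm_num) (by decide) (by decide) with h' | h'
    · exact h'
    interval_cases q
    · exact absurd hex (by decide)
    · exact wit 73 (by decide) (by norm_num)
    · exact wit 241 (by decide) (by norm_num)
  · rcases key 7 3 (by norm_num) (by decide) (by decide) with h' | h'
    · exact h'
    interval_cases q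
    · exact wit 43 (by decide) (by norm_num)
    · exact wit 547 (by decide) (by norm_num)
  · rcases key 5 2 (by norm_num) (by decide) (by decide) with h' | h'
    · exact h'
    interval_cases q
    · exact wit 151 (by decide) (by norm_num)
  · rcases key 3 3 (by norm_num) (by decide) (by decide) with h' | h'
    · exact h'
    interval_cases q
    · exact absurd hex (by decide)
    · exact wit 703 (by decide) (by norm_num)
  · rcases key 5 3 (by norm_num) (by decide) (by decide) with h' | h'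
    · exact h'
    interval_cases q
    · exact absurd hex (by decide)
    · exact wit 1181 (by decide) (by norm_num)
  · rcases key 11 2 (by norm_num) (by decide) (by decide) with h' | h'
    · exact h'
    interval_cases q
    · exact wit 683 (by decide) (by norm_num)
  · rcases key 5 3 (by norm_num) (by decide) (by decide) with h' | h'
    · exact h'
    interval_cases q
    · exact wit 331 (by decide) (by norm_num)
    · exact wit 8401 (by decide) (by norm_num)

end Cfsg.Agent.Arith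

namespace Cfsg.Agent.Arith

lemma eq_two_pow_of_forall_prime : ∀ n : ℕ, n ≠ 0 → (∀ r, r.Prime → r ∣ n → r = 2) →
    ∃ m, n = 2 ^ m := by
  intro n h0 h
  exact ⟨_, Nat.eq_prime_pow_of_unique_prime_dvd h0 fun {d} hd hdn => h d hd hdn⟩

/-- Zsigmondy's theorem for `a ^ n - 1`. -/
theorem exists_isPPD {a n : ℕ} (ha : 1 < a) (hn : 1 < n) (h6 : ¬ (a = 2 ∧ n = 6))
    (h2 : ¬ (n = 2 ∧ ∃ m : ℕ, a + 1 = 2 ^ m)) : ∃ r, IsPPD r a n := by
  rcases eq_or_ne n 2 with rfl | hn2
  · by_contra hc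
    push Not at hc
    refine h2 ⟨rfl, eq_two_pow_of_forall_prime _ (by omega) fun r hr hd => by_contra fun hr2 => ?_⟩
    have hsq : a ^ 2 - 1 = (a + 1) * (a - 1) := by simpa using Nat.sq_sub_sq a 1
    refine hc r ⟨hr, hsq ▸ hd.mul_right _, fun k hk hk2 hd' => hr2 ?_⟩
    obtain rfl : k = 1 := by omega
    rw [pow_one] at hd'
    have h2' : r ∣ 2 := by
      have := Nat.dvd_sub hd hd'
      rwa [show a + 1 - (a - 1) = 2 by omega] at this
    exact (Nat.prime_dvd_prime_iff_eq hr Nat.prime_two).1 h2'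
  · have hn3 : 3 ≤ n := by omega
    by_cases hex : (a, n) ∈ [(2, 6), (2, 4), (2, 10), (2, 12), (2, 18), (3, 4), (3, 6), (5, 6),
        (2, 3), (2, 8), (2, 20), (4, 3), (4, 6)]
    · have wit : ∀ m, m.Prime → IsPrimDiv m a n → ∃ r, IsPPD r a n :=
        fun m hm h => ⟨m, h.isPPD hm dvd_rfl⟩
      simp only [List.mem_cons, List.not_mem_nil, or_false, Prod.mk.injEq] at hex
      rcases hex with ⟨rfl, rfl⟩ | ⟨rfl, rfl⟩ | ⟨rfl, rfl⟩ | ⟨rfl, rfl⟩ | ⟨rfl, rfl⟩ | ⟨rfl, rfl⟩ |
        ⟨rfl, rfl⟩ | ⟨rfl, rfl⟩ | ⟨rfl, rfl⟩ | ⟨rfl, rfl⟩ | ⟨rfl, rfl⟩ | ⟨rfl, rfl⟩ | ⟨rfl, rfl⟩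
      · exact absurd ⟨rfl, rfl⟩ h6
      · exact wit 5 (by norm_num) (by decide)
      · exact wit 11 (by norm_num) (by decide)
      · exact wit 13 (by norm_num) (by decide)
      · exact wit 19 (by norm_num) (by decide)
      · exact wit 5 (by norm_num) (by decide)
      · exact wit 7 (by norm_num) (by decide)
      · exact wit 7 (by norm_num) (by decide)
      · exact wit 7 (by norm_num) (by decide)
      · exact wit 17 (by norm_num) (by decide)
      · exact wit 41 (by norm_num) (by decide)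
      · exact wit 7 (by norm_num) (by decide)
      · exact wit 13 (by norm_num) (by decide)
    · obtain ⟨m, hm, hle⟩ := exists_large_primDiv (by omega) hn3 hex
      obtain ⟨r, hr, hrm⟩ := Nat.exists_prime_and_dvd (show m ≠ 1 by omega)
      exact ⟨r, hm.isPPD hr hrm⟩

/-- There is a large primitive prime divisor. -/
theorem exists_large_ppd {q n : ℕ} (hq : 2 ≤ q) (hn : 2 ≤ n)
    (h1 : ¬ (n = 2 ∧ ∃ s t : ℕ, t ≤ 1 ∧ q + 1 = 2 ^ s * 3 ^ t))
    (h2 : ¬ (q = 2 ∧ (n = 4 ∨ n = 6 ∨ n = 10 ∨ n = 12 ∨ n = 18)))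
    (h3 : ¬ (q = 3 ∧ (n = 4 ∨ n = 6))) (h4 : ¬ (q = 5 ∧ n = 6)) :
    ∃ p : ℕ, p.Prime ∧ p ∣ q ^ n - 1 ∧ (∀ i : ℕ, 1 ≤ i → i < n → ¬ p ∣ q ^ i - 1) ∧
      (n + 1 < p ∨ p ^ 2 ∣ q ^ n - 1) := by
  rcases eq_or_ne n 2 with rfl | hn2
  · by_contra hc
    push Not at hc
    have hsq : q ^ 2 - 1 = (q + 1) * (q - 1) := by simpa using Nat.sq_sub_sq q 1
    have hppd : ∀ p, p.Prime → p ∣ q + 1 → p ≠ 2 → p = 3 ∧ ¬ 9 ∣ q + 1 := by
      intro p hp hd hp2
      have hpd : p ∣ q ^ 2 - 1 := hsq ▸ hd.mul_right _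
      have hh := hc p hp hpd (fun i hi hi2 hd' => hp2 (by
        obtain rfl : i = 1 := by omega
        rw [pow_one] at hd'
        have := Nat.dvd_sub hd hd'
        rw [show q + 1 - (q - 1) = 2 by omega] at this
        exact (Nat.prime_dvd_prime_iff_eq hp Nat.prime_two).1 this))
      obtain rfl : p = 3 := by have := hp.two_le; omega
      exact ⟨rfl, fun h9 => hh.2 (by norm_num; exact hsq ▸ h9.mul_right _)⟩
    apply h1
    obtain ⟨t, m, hm, hqm⟩ := Nat.exists_eq_pow_mul_and_not_dvd (show q + 1 ≠ 0 by omega) 3 (by norm_num)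
    obtain ⟨s, rfl⟩ := eq_two_pow_of_forall_prime m (fun h => by simp [h] at hm) fun r hr hd =>
      by_contra fun hr2 => hm (((hppd r hr (hqm ▸ hd.mul_left _) hr2).1) ▸ hd)
    refine ⟨rfl, s, t, by_contra fun ht => (hppd 3 Nat.prime_three ?_ (by norm_num)).2 ?_,
      by rw [hqm, mul_comm]⟩
    · rw [hqm]; exact (dvd_pow_self 3 (by omega)).mul_right _
    · rw [hqm]; exact (Nat.pow_dvd_pow 3 (show 2 ≤ t by omega)).mul_right _
  · have hn3 : 3 ≤ n := by omega
    by_cases hex : (q, n) ∈ [(2, 6), (2, 4), (2, 10), (2, 12), (2, 18), (3, 4), (3, 6), (5, 6),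
        (2, 3), (2, 8), (2, 20), (4, 3), (4, 6)]
    · have wit : ∀ m, m.Prime → IsPrimDiv m q n → n + 1 < m →
          ∃ p : ℕ, p.Prime ∧ p ∣ q ^ n - 1 ∧ (∀ i : ℕ, 1 ≤ i → i < n → ¬ p ∣ q ^ i - 1) ∧
            (n + 1 < p ∨ p ^ 2 ∣ q ^ n - 1) :=
        fun m hm h hl => ⟨m, hm, h.1, (h.isPPD hm dvd_rfl).2.2, Or.inl hl⟩
      simp only [List.mem_cons, List.not_mem_nil, or_false, Prod.mk.injEq] at hex
      rcases hex with ⟨rfl, rfl⟩ | ⟨rfl, rfl⟩ | ⟨rfl, rfl⟩ | ⟨rfl, rfl⟩ | ⟨rfl, rfl⟩ | ⟨rfl, rfl⟩ |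
        ⟨rfl, rfl⟩ | ⟨rfl, rfl⟩ | ⟨rfl, rfl⟩ | ⟨rfl, rfl⟩ | ⟨rfl, rfl⟩ | ⟨rfl, rfl⟩ | ⟨rfl, rfl⟩
      iterate 8 (exfalso; omega)
      · exact wit 7 (by norm_num) (by decide) (by norm_num)
      · exact wit 17 (by norm_num) (by decide) (by norm_num)
      · exact wit 41 (by norm_num) (by decide) (by norm_num)
      · exact wit 7 (by norm_num) (by decide) (by norm_num)
      · exact wit 13 (by norm_num) (by decide) (by norm_num)
    · obtain ⟨m, hm, hle⟩ := exists_large_primDiv hq hn3 hex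
      by_contra hc
      push Not at hc
      have key : ∀ p, p.Prime → p ∣ m → p = n + 1 ∧ ¬ p ^ 2 ∣ q ^ n - 1 := by
        intro p hp hd
        have h := hm.isPPD hp hd
        have h' := hc p hp h.2.1 h.2.2
        exact ⟨le_antisymm h'.1 (h.lt (by omega) (by omega)), h'.2⟩
      obtain ⟨r, hr, hrm⟩ := Nat.exists_prime_and_dvd (show m ≠ 1 by omega)
      obtain ⟨c, hc'⟩ := hrm
      obtain ⟨hr1, hr2⟩ := key r hr ⟨c, hc'⟩
      have hc1 : c ≠ 1 := fun h => by rw [h, mul_one] at hc'; omega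
      obtain ⟨s, hs, hsc⟩ := Nat.exists_prime_and_dvd hc1
      obtain ⟨hs1, -⟩ := key s hs (hc' ▸ hsc.mul_left r)
      apply hr2
      refine dvd_trans ?_ hm.1
      rw [hc', sq]
      exact Nat.mul_dvd_mul_left r (by rwa [hr1, ← hs1])

end Cfsg.Agent.Arith
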