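import Mathlib

/-! Fine–Herstein: there are `q ^ (n (n - 1))` nilpotent matrices of size `n`. -/

set_option autoImplicit false

namespace Cfsg.Agent.Arith.NilpotentCount

open Matrix

variable {F : Type*} [Field F]

section alg

variable {k l : ℕ}

lemma blocks_zero_of_comm (h : Matrix (Fin k ⊕ Fin l) (Fin k ⊕ Fin l) F)
    (U U' : Matrix (Fin l) (Fin l) F) (hU : IsUnit U) (hU' : IsUnit U')
    (hc : h * fromBlocks 0 0 0 U = fromBlocks 0 0 0 U' * h) :
    h = fromBlocks h.toBlocks₁₁ 0 0 h.toBlocks₂₂ := by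
  conv_lhs at hc => rw [← fromBlocks_toBlocks h]
  conv_rhs at hc => rw [← fromBlocks_toBlocks h]
  rw [fromBlocks_multiply, fromBlocks_multiply, fromBlocks_inj] at hc
  obtain ⟨-, h12, h21, -⟩ := hc
  simp only [Matrix.mul_zero, Matrix.zero_mul, zero_add, add_zero] at h12 h21
  have hdU := (isUnit_iff_isUnit_det U).1 hU
  have hdU' := (isUnit_iff_isUnit_det U').1 hU'
  have e12 : h.toBlocks₁₂ = 0 := by
    have := congrArg (· * U⁻¹) h12
    simpa [Matrix.mul_assoc, mul_nonsing_inv _ hdU] using this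
  have e21 : h.toBlocks₂₁ = 0 := by
    have := congrArg (U'⁻¹ * ·) h21
    simpa [← Matrix.mul_assoc, nonsing_inv_mul _ hdU'] using this.symm
  conv_lhs => rw [← fromBlocks_toBlocks h, e12, e21]

lemma pow_size_eq_zero {A : Matrix (Fin k) (Fin k) F} {j : ℕ} (h : A ^ j = 0) : A ^ k = 0 := by
  have h2 := Matrix.isNilpotent_charpoly_sub_pow_of_isNilpotent (show IsNilpotent A from ⟨j, h⟩)
  rw [Fintype.card_fin] at h2
  have h4 := Matrix.aeval_self_charpoly A
  rwa [sub_eq_zero.1 h2.eq_zero, Polynomial.aeval_X_pow] at h4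

lemma diag_pow (N : Matrix (Fin k) (Fin k) F) (A : Matrix (Fin l) (Fin l) F) (j : ℕ) :
    fromBlocks N 0 0 A ^ j = fromBlocks (N ^ j) 0 0 (A ^ j) := fromBlocks_diagonal_pow _ _ _

lemma rank_diag (U : Matrix (Fin l) (Fin l) F) (hU : IsUnit U) :
    (fromBlocks (0 : Matrix (Fin k) (Fin k) F) 0 0 U).rank = l := by
  classical
  have e : fromBlocks (0 : Matrix (Fin k) (Fin k) F) 0 0 U =
      diagonal (Sum.elim (fun _ => (0 : F)) fun _ => 1) *
        fromBlocks (1 : Matrix (Fin k) (Fin k) F) 0 0 U := by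
    rw [← fromBlocks_diagonal, fromBlocks_multiply]
    simp
  rw [e, rank_mul_eq_left_of_isUnit_det, rank_diagonal]
  · refine (Fintype.card_congr ⟨fun x => match x with
        | ⟨.inl _, h⟩ => absurd rfl h
        | ⟨.inr j, _⟩ => j,
      fun j => ⟨.inr j, by simp⟩, ?_, fun j => rfl⟩).trans (Fintype.card_fin l)
    rintro ⟨i | i, h⟩
    · exact absurd rfl h
    · rfl
  · rw [det_fromBlocks_zero₁₂, det_one, one_mul]
    exact (isUnit_iff_isUnit_det U).1 hU

/-- block diagonal invertible matrices -/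
def diagUnit (α : GL (Fin k) F) (β : GL (Fin l) F) : GL (Fin k ⊕ Fin l) F :=
  ⟨fromBlocks (α : Matrix (Fin k) (Fin k) F) 0 0 (β : Matrix (Fin l) (Fin l) F),
    fromBlocks ((α⁻¹ : GL (Fin k) F) : Matrix (Fin k) (Fin k) F) 0 0
      ((β⁻¹ : GL (Fin l) F) : Matrix (Fin l) (Fin l) F),
    by simp [fromBlocks_multiply, fromBlocks_one],
    by simp [fromBlocks_multiply, fromBlocks_one]⟩

variable (F k l) in
/-- decomposition data -/
abbrev Data := GL (Fin k ⊕ Fin l) F × {N : Matrix (Fin k) (Fin k) F // N ^ k = 0} × GL (Fin l) F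

variable (F k l) in
/-- endomorphisms with Fitting parts of dimensions `k` and `l` -/
abbrev Split := {X : Matrix (Fin k ⊕ Fin l) (Fin k ⊕ Fin l) F // (X ^ (k + l)).rank = l}

/-- the inner block matrix -/
def inner (d : Data F k l) : Matrix (Fin k ⊕ Fin l) (Fin k ⊕ Fin l) F :=
  fromBlocks d.2.1.1 0 0 (d.2.2 : Matrix (Fin l) (Fin l) F)

/-- the represented endomorphism -/
def build (d : Data F k l) : Matrix (Fin k ⊕ Fin l) (Fin k ⊕ Fin l) F :=
  (d.1 : Matrix (Fin k ⊕ Fin l) (Fin k ⊕ Fin l) F) * inner d *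
    ((d.1⁻¹ : GL (Fin k ⊕ Fin l) F) : Matrix (Fin k ⊕ Fin l) (Fin k ⊕ Fin l) F)

lemma inner_pow (d : Data F k l) :
    inner d ^ (k + l) = fromBlocks 0 0 0 ((d.2.2 : Matrix (Fin l) (Fin l) F) ^ (k + l)) := by
  rw [inner, diag_pow, pow_eq_zero_of_le (Nat.le_add_right k l) d.2.1.2]

lemma build_rank (d : Data F k l) : (build d ^ (k + l)).rank = l := by
  rw [build, Units.conj_pow, inner_pow, rank_mul_eq_left_of_isUnit_det _ _
    ((isUnit_iff_isUnit_det _).1 (Units.isUnit _)), rank_mul_eq_right_of_isUnit_det _ _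
    ((isUnit_iff_isUnit_det _).1 (Units.isUnit _))]
  exact rank_diag _ (d.2.2.isUnit.pow _)

/-- the moved datum -/
def move (d : Data F k l) (αβ : GL (Fin k) F × GL (Fin l) F) : Data F k l :=
  (d.1 * diagUnit αβ.1 αβ.2,
    ⟨((αβ.1⁻¹ : GL (Fin k) F) : Matrix (Fin k) (Fin k) F) * d.2.1.1 * αβ.1, by
      rw [Units.conj_pow', d.2.1.2, Matrix.mul_zero, Matrix.zero_mul]⟩,
    αβ.2⁻¹ * d.2.2 * αβ.2)

lemma build_move (d : Data F k l) (αβ : GL (Fin k) F × GL (Fin l) F) :
    build (move d αβ) = build d := by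
  obtain ⟨α, β⟩ := αβ
  have h1 : ((diagUnit α β : GL (Fin k ⊕ Fin l) F) : Matrix (Fin k ⊕ Fin l) (Fin k ⊕ Fin l) F) *
      inner (move d (α, β)) *
      (((diagUnit α β)⁻¹ : GL (Fin k ⊕ Fin l) F) : Matrix (Fin k ⊕ Fin l) (Fin k ⊕ Fin l) F) =
      inner d := by
    simp only [inner, move, diagUnit, Units.inv_mk, fromBlocks_multiply, Matrix.mul_assoc, Units.val_mul,
      Matrix.mul_zero, Matrix.zero_mul, add_zero, zero_add]
    simp only [← Matrix.mul_assoc, Units.mul_inv, Matrix.one_mul]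
    simp only [Matrix.mul_assoc, Units.mul_inv, Matrix.mul_one]
  conv_rhs => rw [build, ← h1]
  simp only [build, move, Units.val_mul, _root_.mul_inv_rev, Matrix.mul_assoc]

lemma exists_move {d d' : Data F k l} (h : build d' = build d) :
    ∃ αβ, move d αβ = d' := by
  set u := d.1⁻¹ * d'.1 with hu
  have hU : ∀ e : Data F k l, IsUnit ((e.2.2 : Matrix (Fin l) (Fin l) F) ^ (k + l)) :=
    fun e => e.2.2.isUnit.pow _
  have h1 : (u : Matrix (Fin k ⊕ Fin l) (Fin k ⊕ Fin l) F) * inner d' = inner d * u := by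
    have := congrArg (fun X => ((d.1⁻¹ : GL (Fin k ⊕ Fin l) F) : Matrix (Fin k ⊕ Fin l) (Fin k ⊕ Fin l) F) * X *
      (d'.1 : Matrix (Fin k ⊕ Fin l) (Fin k ⊕ Fin l) F)) h
    simp only [build, Matrix.mul_assoc, Units.inv_mul, Matrix.mul_one] at this
    rw [← Matrix.mul_assoc ((d.1⁻¹ : GL (Fin k ⊕ Fin l) F) : Matrix (Fin k ⊕ Fin l) (Fin k ⊕ Fin l) F)
      (d.1 : Matrix (Fin k ⊕ Fin l) (Fin k ⊕ Fin l) F), Units.inv_mul, Matrix.one_mul] at this
    rw [hu, Units.val_mul, Matrix.mul_assoc]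
    exact this
  have hsc : SemiconjBy (u : Matrix (Fin k ⊕ Fin l) (Fin k ⊕ Fin l) F) (inner d') (inner d) := h1
  have h2 := (hsc.pow_right (k + l)).eq
  rw [inner_pow, inner_pow] at h2
  have hu2 := blocks_zero_of_comm _ _ _ (hU d') (hU d) h2
  have hdet : ((u : Matrix (Fin k ⊕ Fin l) (Fin k ⊕ Fin l) F)).det ≠ 0 :=
    (Matrix.GeneralLinearGroup.det u).ne_zero
  rw [hu2, det_fromBlocks_zero₁₂] at hdet
  let α : GL (Fin k) F := GeneralLinearGroup.mkOfDetNeZero _ (left_ne_zero_of_mul hdet)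
  let β : GL (Fin l) F := GeneralLinearGroup.mkOfDetNeZero _ (right_ne_zero_of_mul hdet)
  have hα : diagUnit α β = u := Units.ext hu2.symm
  refine ⟨(α, β), ?_⟩
  rw [hu2, inner, inner, fromBlocks_multiply, fromBlocks_multiply, fromBlocks_inj] at h1
  obtain ⟨h11, -, -, h22⟩ := h1
  simp only [Matrix.mul_zero, Matrix.zero_mul, add_zero, zero_add] at h11 h22
  refine Prod.ext ?_ (Prod.ext (Subtype.ext ?_) (Units.ext ?_))
  · show d.1 * diagUnit α β = d'.1
    rw [hα, hu, mul_inv_cancel_left]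
  · show ((α⁻¹ : GL (Fin k) F) : Matrix (Fin k) (Fin k) F) * d.2.1.1 * α = d'.2.1.1
    rw [Matrix.mul_assoc]
    show ((α⁻¹ : GL (Fin k) F) : Matrix (Fin k) (Fin k) F) *
      (d.2.1.1 * (u : Matrix (Fin k ⊕ Fin l) (Fin k ⊕ Fin l) F).toBlocks₁₁) = _
    rw [← h11, ← Matrix.mul_assoc]
    show ((α⁻¹ : GL (Fin k) F) : Matrix (Fin k) (Fin k) F) * (α : Matrix (Fin k) (Fin k) F) * _ = _
    rw [Units.inv_mul, Matrix.one_mul]
  · show ((β⁻¹ : GL (Fin l) F) : Matrix (Fin l) (Fin l) F) * d.2.2 * β = d'.2.2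
    rw [Matrix.mul_assoc]
    show ((β⁻¹ : GL (Fin l) F) : Matrix (Fin l) (Fin l) F) *
      ((d.2.2 : Matrix (Fin l) (Fin l) F) * (u : Matrix (Fin k ⊕ Fin l) (Fin k ⊕ Fin l) F).toBlocks₂₂) = _
    rw [← h22, ← Matrix.mul_assoc]
    show ((β⁻¹ : GL (Fin l) F) : Matrix (Fin l) (Fin l) F) * (β : Matrix (Fin l) (Fin l) F) * _ = _
    rw [Units.inv_mul, Matrix.one_mul]

lemma move_injective (d : Data F k l) : Function.Injective (move d) := by
  intro x y h
  have h1 : diagUnit x.1 x.2 = diagUnit y.1 y.2 := mul_left_cancel (congrArg Prod.fst h)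
  have h2 := congrArg Units.val h1
  simp only [diagUnit] at h2
  obtain ⟨e1, -, -, e2⟩ := fromBlocks_inj.1 h2
  exact Prod.ext (Units.ext e1) (Units.ext e2)

lemma build_surjective (X : Split F k l) : ∃ d : Data F k l, build d = X.1 := by
  classical
  obtain ⟨X, hX⟩ := X
  set T := Matrix.toLinAlgEquiv' X with hT
  let K := LinearMap.ker (T ^ (k + l))
  let R := LinearMap.range (T ^ (k + l))
  have hfin : Module.finrank F (Fin k ⊕ Fin l → F) = k + l := by simp
  have hR : Module.finrank F R = l := by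
    refine Eq.trans ?_ hX
    show _ = Module.finrank F (LinearMap.range ((X ^ (k + l)).mulVecLin))
    have : T ^ (k + l) = (X ^ (k + l)).mulVecLin := by rw [hT, ← map_pow]; rfl
    exact congrArg (fun f => Module.finrank F (LinearMap.range f)) this
  have hK : Module.finrank F K = k := by
    have := LinearMap.finrank_range_add_finrank_ker (T ^ (k + l))
    rw [hfin] at this
    change Module.finrank F R + Module.finrank F K = _ at this
    omega
  have hdisj : Disjoint K R := by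
    rw [Submodule.disjoint_def]
    rintro x hxK ⟨y, rfl⟩
    have hy : y ∈ LinearMap.ker (T ^ (k + l + (k + l))) := by
      rw [LinearMap.mem_ker, pow_add, Module.End.mul_apply]; exact hxK
    rw [Module.End.ker_pow_eq_ker_pow_finrank_of_le (by rw [hfin]; omega), hfin] at hy
    exact hy
  have hc : IsCompl K R := (Submodule.isCompl_iff_disjoint K R (by rw [hfin, hK, hR])).2 hdisj
  let b : Module.Basis (Fin k ⊕ Fin l) F (Fin k ⊕ Fin l → F) :=
    ((Module.finBasisOfFinrankEq F K hK).prod (Module.finBasisOfFinrankEq F R hR)).map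
      (Submodule.prodEquivOfIsCompl K R hc)
  have hbl : ∀ i, b (Sum.inl i) ∈ K := fun i => by
    simp [b, Submodule.coe_prodEquivOfIsCompl', Module.Basis.prod_apply]
  let φ := (Pi.basisFun F (Fin k ⊕ Fin l)).equiv b (Equiv.refl _)
  let g : GL (Fin k ⊕ Fin l) F :=
    ⟨LinearMap.toMatrix' φ.toLinearMap, LinearMap.toMatrix' φ.symm.toLinearMap,
      by rw [← LinearMap.toMatrix'_comp, LinearEquiv.comp_coe, LinearEquiv.symm_trans_self,
        LinearEquiv.refl_toLinearMap, LinearMap.toMatrix'_id],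
      by rw [← LinearMap.toMatrix'_comp, LinearEquiv.comp_coe, LinearEquiv.self_trans_symm,
        LinearEquiv.refl_toLinearMap, LinearMap.toMatrix'_id]⟩
  have hg : ∀ v, (g : Matrix (Fin k ⊕ Fin l) (Fin k ⊕ Fin l) F) *ᵥ v = φ v := fun v =>
    LinearMap.toMatrix'_mulVec _ _
  set Y := ((g⁻¹ : GL (Fin k ⊕ Fin l) F) : Matrix (Fin k ⊕ Fin l) (Fin k ⊕ Fin l) F) * X * g with hY
  set Z := Y ^ (k + l) with hZ
  have hZeq : Z = ((g⁻¹ : GL (Fin k ⊕ Fin l) F) : Matrix (Fin k ⊕ Fin l) (Fin k ⊕ Fin l) F) *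
      X ^ (k + l) * g := by rw [hZ, hY, Units.conj_pow']
  have hXT : ∀ v, (X ^ (k + l)) *ᵥ v = (T ^ (k + l)) v := fun v => by rw [hT, ← map_pow]; rfl
  have hcol : ∀ i j, Z i (Sum.inl j) = 0 := by
    intro i j
    have h1 : Z *ᵥ Pi.single (Sum.inl j) 1 = 0 := by
      rw [hZeq, ← mulVec_mulVec, hg, show φ (Pi.single (Sum.inl j) 1) = b (Sum.inl j) from by
        simp [φ, ← Pi.basisFun_apply, Module.Basis.equiv_apply], ← mulVec_mulVec, hXT,
        LinearMap.mem_ker.1 (hbl j), mulVec_zero]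
    simpa using congrFun h1 i
  have hrow : ∀ i j, Z (Sum.inl i) j = 0 := by
    intro i j
    have h1 : ∀ y ∈ R, φ.symm y (Sum.inl i) = 0 := by
      intro y hy
      have hy' : y ∈ Submodule.span F (Set.range fun r => b (Sum.inr r)) := by
        have := (Module.finBasisOfFinrankEq F R hR).mem_span (⟨y, hy⟩ : R)
        have h3 := Submodule.mem_map_of_mem (f := R.subtype) this
        rw [Submodule.map_span, ← Set.range_comp] at h3
        refine Submodule.span_mono ?_ h3
        rintro _ ⟨r, rfl⟩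
        exact ⟨r, by simp [b, Submodule.coe_prodEquivOfIsCompl', Module.Basis.prod_apply]⟩
      clear hy
      induction hy' using Submodule.span_induction with
      | mem x hx =>
        obtain ⟨r, rfl⟩ := hx
        rw [show φ.symm (b (Sum.inr r)) = Pi.single (Sum.inr r) 1 from by
          rw [LinearEquiv.symm_apply_eq]; simp [φ, ← Pi.basisFun_apply, Module.Basis.equiv_apply]]
        simp
      | zero => simp
      | add x y _ _ hx hy => simp [hx, hy]
      | smul c x _ hx => simp [hx]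
    have hinv : ∀ y, ((g⁻¹ : GL (Fin k ⊕ Fin l) F) : Matrix (Fin k ⊕ Fin l) (Fin k ⊕ Fin l) F) *ᵥ y =
        φ.symm y := fun v => LinearMap.toMatrix'_mulVec _ _
    have h2 : Z *ᵥ Pi.single j 1 = φ.symm ((X ^ (k + l)) *ᵥ φ (Pi.single j 1)) := by
      rw [hZeq, ← mulVec_mulVec, hg, ← mulVec_mulVec, hinv]
    have h4 := congrFun h2 (Sum.inl i)
    rw [h1 _ (by rw [hXT]; exact ⟨_, rfl⟩)] at h4
    simpa using h4
  have hZb : Z = fromBlocks 0 0 0 Z.toBlocks₂₂ := by
    ext (i | i) (j | j) <;> simp [hcol, hrow, toBlocks₂₂]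
  have hU : IsUnit Z.toBlocks₂₂ := by
    rw [isUnit_iff_isUnit_det, isUnit_iff_ne_zero]
    intro hdet
    obtain ⟨v, hv0, hv⟩ := exists_mulVec_eq_zero_iff.2 hdet
    have hrk : Z.rank = l := by
      rw [hZeq, rank_mul_eq_left_of_isUnit_det _ _ ((isUnit_iff_isUnit_det _).1 (Units.isUnit _)),
        rank_mul_eq_right_of_isUnit_det _ _ ((isUnit_iff_isUnit_det _).1 (Units.isUnit _))]
      exact hX
    have h5 := LinearMap.finrank_range_add_finrank_ker Z.mulVecLin
    rw [show Module.finrank F (LinearMap.range Z.mulVecLin) = l from hrk, hfin] at h5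
    -- the kernel contains the first coordinates and one more vector
    let κ : (Fin k → F) × F →ₗ[F] (Fin k ⊕ Fin l → F) :=
      { toFun := fun p => Sum.elim p.1 (p.2 • v)
        map_add' := fun p q => by funext i; rcases i with i | i <;> simp [add_mul]
        map_smul' := fun c p => by funext i; rcases i with i | i <;> simp [mul_assoc] }
    have hκ : Function.Injective κ := by
      rw [← LinearMap.ker_eq_bot, LinearMap.ker_eq_bot']
      intro p hp
      obtain ⟨i, hi⟩ := Function.ne_iff.1 hv0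
      refine Prod.ext (funext fun a => by simpa [κ] using congrFun hp (Sum.inl a)) ?_
      have := congrFun hp (Sum.inr i)
      simpa [κ, show v i ≠ 0 from hi] using this
    have hle : LinearMap.range κ ≤ LinearMap.ker Z.mulVecLin := by
      rintro _ ⟨p, rfl⟩
      rw [LinearMap.mem_ker, mulVecLin_apply, hZb, fromBlocks_mulVec]
      funext i; rcases i with i | i
      · simp
      · simp [κ, mulVec_smul, hv]
    have h6 := Submodule.finrank_mono hle
    rw [LinearMap.finrank_range_of_inj hκ] at h6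
    simp at h6
    omega
  have hcomm : Y * fromBlocks 0 0 0 Z.toBlocks₂₂ = fromBlocks 0 0 0 Z.toBlocks₂₂ * Y := by
    rw [← hZb, hZ, ← pow_succ', ← pow_succ]
  have hYb := blocks_zero_of_comm Y _ _ hU hU hcomm
  have hpow : fromBlocks (Y.toBlocks₁₁ ^ (k + l)) 0 0 (Y.toBlocks₂₂ ^ (k + l)) =
      fromBlocks 0 0 0 Z.toBlocks₂₂ := by
    rw [← diag_pow, ← hYb, ← hZb]
  obtain ⟨hP, -, -, hS⟩ := fromBlocks_inj.1 hpow
  have hSu : IsUnit Y.toBlocks₂₂ := by
    rcases Nat.eq_zero_or_pos (k + l) with h0 | h0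
    · have : l = 0 := by omega
      subst this
      exact ⟨1, Subsingleton.elim _ _⟩
    · exact (isUnit_pow_iff h0.ne').1 (hS ▸ hU)
  refine ⟨(g, ⟨Y.toBlocks₁₁, pow_size_eq_zero hP⟩, hSu.unit), ?_⟩
  show (g : Matrix (Fin k ⊕ Fin l) (Fin k ⊕ Fin l) F) *
    fromBlocks Y.toBlocks₁₁ 0 0 Y.toBlocks₂₂ *
      ((g⁻¹ : GL (Fin k ⊕ Fin l) F) : Matrix (Fin k ⊕ Fin l) (Fin k ⊕ Fin l) F) = X
  rw [← hYb, hY, ← Matrix.mul_assoc, ← Matrix.mul_assoc, Units.mul_inv, Matrix.one_mul, Matrix.mul_assoc,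
    Units.mul_inv, Matrix.mul_one]

/-- the fibre count -/
theorem card_split [Finite F] :
    Nat.card (Split F k l) * Nat.card (GL (Fin k) F) =
      Nat.card (GL (Fin k ⊕ Fin l) F) * Nat.card {N : Matrix (Fin k) (Fin k) F // N ^ k = 0} := by
  classical
  haveI := Fintype.ofFinite F
  let f : Data F k l → Split F k l := fun d => ⟨build d, build_rank d⟩
  have hfib : ∀ X : Split F k l, Nat.card {d // f d = X} =
      Nat.card (GL (Fin k) F) * Nat.card (GL (Fin l) F) := by
    intro X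
    obtain ⟨d, hd⟩ := build_surjective X
    rw [← Nat.card_prod]
    refine (Nat.card_eq_of_bijective (fun αβ => (⟨move d αβ, Subtype.ext ((build_move d αβ).trans hd)⟩ :
      {d // f d = X})) ⟨fun x y h => move_injective d (congrArg Subtype.val h), ?_⟩).symm
    rintro ⟨d', hd'⟩
    obtain ⟨αβ, hαβ⟩ := exists_move ((congrArg Subtype.val hd').trans hd.symm)
    exact ⟨αβ, Subtype.ext hαβ⟩
  have h1 : Nat.card (Data F k l) =
      Nat.card (Split F k l) * (Nat.card (GL (Fin k) F) * Nat.card (GL (Fin l) F)) := by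
    rw [← Nat.card_congr (Equiv.sigmaFiberEquiv f), Nat.card_sigma, Finset.sum_congr rfl fun X _ => hfib X,
      Finset.sum_const, Finset.card_univ, smul_eq_mul, Nat.card_eq_fintype_card (α := Split F k l)]
  rw [Nat.card_prod, Nat.card_prod] at h1
  refine Nat.eq_of_mul_eq_mul_right (Nat.card_pos (α := GL (Fin l) F)) ?_
  rw [mul_assoc, mul_assoc, h1]

end alg

/-- Fine–Herstein. -/
theorem card_nilpotent [Fintype F] (n : ℕ) :
    Nat.card {A : Matrix (Fin n) (Fin n) F // A ^ n = 0} = Fintype.card F ^ (n * (n - 1)) := by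
  classical
  induction n using Nat.strong_induction_on with
  | _ n ih =>
  set q := Fintype.card F with hq
  have hq2 : 1 < q := Fintype.one_lt_card
  let G : ℕ → ℚ := fun m => (Nat.card (GL (Fin m) F) : ℚ)
  have hG : ∀ m, G m ≠ 0 := fun m => by simp [G, Nat.card_pos.ne']
  have hGs : ∀ m, G (m + 1) = ((q : ℚ) ^ (m + 1) - 1) * (q : ℚ) ^ m * G m := by
    intro m
    have hstep : ∏ i : Fin (m + 1), (q ^ (m + 1) - q ^ (i : ℕ)) =
        (q ^ (m + 1) - 1) * q ^ m * ∏ i : Fin m, (q ^ m - q ^ (i : ℕ)) := by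
      rw [Fin.prod_univ_succ, Fin.val_zero, pow_zero, mul_assoc]
      congr 1
      calc ∏ i : Fin m, (q ^ (m + 1) - q ^ ((i.succ : Fin (m + 1)) : ℕ))
          = ∏ i : Fin m, q * (q ^ m - q ^ (i : ℕ)) := Finset.prod_congr rfl fun i _ => by
            rw [Fin.val_succ, Nat.mul_sub, ← pow_succ', ← pow_succ']
        _ = q ^ m * ∏ i : Fin m, (q ^ m - q ^ (i : ℕ)) := by
            rw [Finset.prod_mul_distrib, Finset.prod_const, Finset.card_univ, Fintype.card_fin]
    have h := Matrix.card_GL_field (𝔽 := F) (m + 1)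
    rw [← hq, hstep, ← Matrix.card_GL_field (𝔽 := F) m] at h
    show (Nat.card (GL (Fin (m + 1)) F) : ℚ) = _
    rw [h, Nat.cast_mul, Nat.cast_mul, Nat.cast_sub (Nat.one_le_pow _ _ (by omega)), Nat.cast_one,
      Nat.cast_pow, Nat.cast_pow]
  have hsum : ∀ m, ∑ k ∈ Finset.range (m + 1), (q : ℚ) ^ (k * (k - 1)) / G k = (q : ℚ) ^ (m * m) / G m := by
    intro m
    induction m with
    | zero => simp [G]
    | succ m ihm =>
      rw [Finset.sum_range_succ, ihm, hGs, Nat.add_sub_cancel]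
      have hz : ((q : ℚ) ^ (m + 1) - 1) * (q : ℚ) ^ m ≠ 0 := left_ne_zero_of_mul (hGs m ▸ hG (m + 1))
      have := hG m
      have hz1 := left_ne_zero_of_mul hz
      have hz2 := right_ne_zero_of_mul hz
      field_simp
      rw [show (m + 1) * (m + 1) = (m + 1) * m + (m + 1) by ring,
        show (m + 1) * m = m * m + m by ring, pow_add, pow_add]
      ring
  -- stratify all matrices by the rank of the `n`-th power
  let E : Fin (n + 1) → ℕ := fun k =>
    Nat.card {X : Matrix (Fin n) (Fin n) F // (X ^ n).rank = n - (k : ℕ)}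
  have hE : ∀ k : Fin (n + 1), E k * Nat.card (GL (Fin (k : ℕ)) F) =
      Nat.card (GL (Fin n) F) * Nat.card {N : Matrix (Fin (k : ℕ)) (Fin (k : ℕ)) F // N ^ (k : ℕ) = 0} := by
    intro k
    obtain ⟨l, hl⟩ : ∃ l, (k : ℕ) + l = n := ⟨n - k, by omega⟩
    let e : Fin (k : ℕ) ⊕ Fin l ≃ Fin n := finSumFinEquiv.trans (finCongr hl)
    let φ := Matrix.reindexAlgEquiv F F e
    have e1 : Nat.card (GL (Fin (k : ℕ) ⊕ Fin l) F) = Nat.card (GL (Fin n) F) :=
      Nat.card_congr (Units.mapEquiv φ.toMulEquiv).toEquiv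
    have e2 : E k = Nat.card (Split F (k : ℕ) l) := by
      refine (Nat.card_congr (φ.toEquiv.subtypeEquiv fun X => ?_)).symm
      show (X ^ ((k : ℕ) + l)).rank = l ↔ ((φ X) ^ n).rank = n - (k : ℕ)
      rw [← map_pow, hl, show n - (k : ℕ) = l by omega]
      show _ ↔ (Matrix.reindex e e (X ^ n)).rank = l
      rw [Matrix.rank_reindex]
    rw [e2, ← e1]
    exact card_split
  have htot : ∑ k : Fin (n + 1), E k = q ^ (n * n) := by
    have hrk : ∀ X : Matrix (Fin n) (Fin n) F, (X ^ n).rank ≤ n := fun X =>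
      (Matrix.rank_le_card_height _).trans_eq (Fintype.card_fin n)
    let f : Matrix (Fin n) (Fin n) F → Fin (n + 1) := fun X => ⟨n - (X ^ n).rank, by omega⟩
    have h1 : ∀ k : Fin (n + 1), E k = Nat.card {X // f X = k} := fun k =>
      Nat.card_congr (Equiv.subtypeEquivRight fun X => by
        have := hrk X
        simp only [f, Fin.ext_iff]
        omega)
    rw [Finset.sum_congr rfl fun k _ => h1 k, ← Nat.card_sigma, Nat.card_congr (Equiv.sigmaFiberEquiv f)]
    rw [show Nat.card (Matrix (Fin n) (Fin n) F) = Nat.card (Fin n → Fin n → F) from rfl, Nat.card_fun,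
      Nat.card_fun, Nat.card_eq_fintype_card, Nat.card_eq_fintype_card, Fintype.card_fin, ← hq, ← pow_mul]
  have hlast : E (Fin.last n) = Nat.card {A : Matrix (Fin n) (Fin n) F // A ^ n = 0} :=
    Nat.eq_of_mul_eq_mul_left Nat.card_pos ((mul_comm _ _).trans (hE (Fin.last n)))
  rw [← hlast]
  rw [Fin.sum_univ_castSucc] at htot
  have hlow : (∑ k : Fin n, E k.castSucc : ℚ) = G n * ∑ k ∈ Finset.range n, (q : ℚ) ^ (k * (k - 1)) / G k := by
    rw [Finset.mul_sum, ← Fin.sum_univ_eq_sum_range (fun k => G n * ((q : ℚ) ^ (k * (k - 1)) / G k))]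
    refine Finset.sum_congr rfl fun k _ => ?_
    have h := hE k.castSucc
    simp only [Fin.val_castSucc] at h
    rw [ih k k.2] at h
    rw [← mul_div_assoc, eq_div_iff (hG k)]
    show ((E k.castSucc : ℚ) * (Nat.card (GL (Fin (k : ℕ)) F) : ℚ)) =
      (Nat.card (GL (Fin n) F) : ℚ) * (q : ℚ) ^ ((k : ℕ) * ((k : ℕ) - 1))
    rw [← Nat.cast_mul, h, Nat.cast_mul, Nat.cast_pow]
  rcases n with _ | m
  · simpa using htot
  have hlow' : (∑ k : Fin (m + 1), E k.castSucc : ℚ) =
      (q : ℚ) ^ ((m + 1) * (m + 1)) - (q : ℚ) ^ ((m + 1) * m) := by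
    rw [hlow, hsum, hGs]
    have := hG m
    field_simp
    rw [show (m + 1) * (m + 1) = (m + 1) * m + (m + 1) by ring,
      show (m + 1) * m = m * m + m by ring, pow_add, pow_add]
    ring
  have htot' := congrArg (Nat.cast (R := ℚ)) htot
  rw [Nat.cast_add, Nat.cast_sum, hlow', Nat.cast_pow] at htot'
  rw [Nat.add_sub_cancel]
  exact_mod_cast (by linarith : (E (Fin.last (m + 1)) : ℚ) = (q : ℚ) ^ ((m + 1) * m))

end Cfsg.Agent.Arith.NilpotentCount
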