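import Cfsg.Agent.Arith.PrimDiv

/-! Lower bounds for cyclotomic values. -/

namespace Cfsg.Agent.Arith

open Polynomial

lemma phiVal_mul_of_dvd {n s q : ℕ} (hs : s.Prime) (h : s ∣ n) :
    phiVal (n * s) q = phiVal n (q ^ s) := by
  rw [phiVal, phiVal, ← cyclotomic_expand_eq_cyclotomic hs h, expand_eval, Nat.cast_pow]

lemma phiVal_mul_of_not_dvd {n s q : ℕ} (hs : s.Prime) (h : ¬ s ∣ n) :
    phiVal (n * s) q * phiVal n q = phiVal n (q ^ s) := by
  rw [phiVal, phiVal, phiVal, ← Int.natAbs_mul, ← eval_mul,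
    ← cyclotomic_expand_eq_cyclotomic_mul hs h, expand_eval, Nat.cast_pow]

lemma phiVal_mul_pow_of_dvd {n s : ℕ} (hs : s.Prime) (h : s ∣ n) (k : ℕ) : ∀ q,
    phiVal (n * s ^ k) q = phiVal n (q ^ s ^ k) := by
  induction k with
  | zero => intro q; simp
  | succ k ih =>
    intro q
    rw [pow_succ, ← mul_assoc, phiVal_mul_of_dvd hs (h.mul_right _), ih, ← pow_mul, mul_comm s]

lemma phiVal_two (q : ℕ) : phiVal 2 q = q + 1 := by
  rw [phiVal, cyclotomic_two, eval_add, eval_X, eval_one, ← Nat.cast_one, ← Nat.cast_add,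
    Int.natAbs_natCast]

lemma phiVal_three (q : ℕ) : phiVal 3 q = q ^ 2 + q + 1 := by
  rw [phiVal, cyclotomic_three, eval_add, eval_add, eval_pow, eval_X, eval_one, ← Nat.cast_pow,
    ← Nat.cast_one, ← Nat.cast_add, ← Nat.cast_add, Int.natAbs_natCast]

lemma phiVal_six (q : ℕ) : (phiVal 6 q : ℤ) = (q : ℤ) ^ 2 - q + 1 := by
  rw [phiVal, cyclotomic_six, eval_add, eval_sub, eval_pow, eval_X, eval_one,
    Int.natAbs_of_nonneg]
  nlinarith [sq_nonneg ((q : ℤ) - 1), (Int.natCast_nonneg q)]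

lemma pow_totient_le_phiVal {n q : ℕ} (hn : 0 < n) (hq : 2 ≤ q) :
    (q - 1) ^ n.totient ≤ phiVal n q := by
  rcases eq_or_ne n 1 with rfl | h1
  · simp [phiVal, cyclotomic_one]
    omega
  · exact (sub_one_pow_totient_lt_natAbs_cyclotomic_eval (by omega) (by omega)).le

lemma phiVal_le_pow_totient {n q : ℕ} (hq : 2 ≤ q) : phiVal n q ≤ (q + 1) ^ n.totient := by
  have h1 : (1 : ℝ) < q := by exact_mod_cast hq
  have h := cyclotomic_eval_le_add_one_pow_totient (q := (q : ℝ)) h1 n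
  have h2 : ((phiVal n q : ℤ) : ℝ) = (cyclotomic n ℝ).eval (q : ℝ) := by
    rw [phiVal_cast hq, ← map_cyclotomic_int n ℝ, ← Int.cast_natCast (R := ℝ) q, eval_intCast_map]
    simp
  rw [← h2] at h
  exact_mod_cast h

lemma le_totient_sq (n : ℕ) : (n ≤ 2 * n.totient ^ 2) ∧ (¬ 2 ∣ n → n ≤ n.totient ^ 2) := by
  induction n using Nat.recOnPosPrimePosCoprime with
  | prime_pow p k hp hk =>
    rw [Nat.totient_prime_pow hp hk]
    have key : p ≤ 2 * (p - 1) ^ 2 ∧ (p ≠ 2 → p ≤ (p - 1) ^ 2) := by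
      obtain ⟨c, rfl⟩ : ∃ c, p = c + 2 := ⟨p - 2, by have := hp.two_le; omega⟩
      simp only [Nat.add_succ_sub_one]
      exact ⟨by nlinarith, fun h => by nlinarith [Nat.pos_of_ne_zero (fun hc : c = 0 => h (by omega))]⟩
    have hk' : p ^ k = p ^ (k - 1) * p := by rw [← pow_succ, Nat.sub_add_cancel hk]
    have hA : p ^ (k - 1) ≤ (p ^ (k - 1)) ^ 2 := Nat.le_self_pow two_ne_zero _
    constructor
    · rw [hk', mul_pow]
      calc p ^ (k - 1) * p ≤ (p ^ (k - 1)) ^ 2 * (2 * (p - 1) ^ 2) := Nat.mul_le_mul hA key.1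
        _ = _ := by ring
    · intro h
      rw [hk', mul_pow]
      exact Nat.mul_le_mul hA (key.2 fun h2 => h (h2 ▸ dvd_pow_self p (by omega)))
  | zero => simp
  | one => simp
  | coprime a b ha hb hab iha ihb =>
    rw [Nat.totient_mul hab, mul_pow]
    refine ⟨?_, fun h => Nat.mul_le_mul (iha.2 fun h' => h (h'.mul_right b))
      (ihb.2 fun h' => h (h'.mul_left a))⟩
    by_cases h2 : 2 ∣ a
    · have hb2 : ¬ 2 ∣ b := fun h => by
        have := Nat.eq_one_of_dvd_coprimes hab h2 h; omega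
      calc a * b ≤ (2 * a.totient ^ 2) * b.totient ^ 2 := Nat.mul_le_mul iha.1 (ihb.2 hb2)
        _ = _ := by ring
    · calc a * b ≤ a.totient ^ 2 * (2 * b.totient ^ 2) := Nat.mul_le_mul (iha.2 h2) ihb.1
        _ = _ := by ring

end Cfsg.Agent.Arith
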