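import Mathlib

/-! Two-power residues in finite fields. -/

namespace Cfsg.Agent.Arith

lemma exists_two_pow_mul_odd {N : ℕ} (hN : N ≠ 0) :
    ∃ b, Odd b ∧ N = 2 ^ padicValNat 2 N * b := by
  obtain ⟨b, hb⟩ : 2 ^ padicValNat 2 N ∣ N := pow_padicValNat_dvd
  refine ⟨b, Nat.not_even_iff_odd.1 fun he => ?_, hb⟩
  obtain ⟨c, rfl⟩ := even_iff_two_dvd.1 he
  have h1 : 2 ^ (padicValNat 2 N + 1) ∣ N := ⟨c, hb.trans (by rw [pow_succ, mul_assoc])⟩
  have := (padicValNat_dvd_iff_le hN).1 h1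
  omega

variable {F : Type*} [Field F] [Fintype F] {q : ℕ}

lemma neg_one_ne_one_of_odd (hF : Fintype.card F = q) (hq : Odd q) : (-1 : F) ≠ 1 := by
  apply Ring.neg_one_ne_one_of_char_ne_two
  intro h
  have := FiniteField.even_card_of_char_two (F := F) h
  rw [hF] at this
  obtain ⟨k, rfl⟩ := hq
  omega

lemma card_sub_one_pos (hF : Fintype.card F = q) : 1 < q := hF ▸ Fintype.one_lt_card

/-- `-1` is an `n`th power iff the 2-part of `n` is less than the 2-part of `q - 1`. -/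
lemma exists_pow_eq_neg_one_iff (hF : Fintype.card F = q) (hq : Odd q) {n : ℕ} (hn : n ≠ 0) :
    (∃ c : F, c ≠ 0 ∧ c ^ n = -1) ↔ padicValNat 2 n < padicValNat 2 (q - 1) := by
  have h1q := card_sub_one_pos hF
  obtain ⟨b, hb, hqb⟩ := exists_two_pow_mul_odd (show q - 1 ≠ 0 by omega)
  constructor
  · rintro ⟨c, hc, hcn⟩
    by_contra hlt
    obtain ⟨m, hm⟩ : 2 ^ padicValNat 2 (q - 1) ∣ n :=
      (Nat.pow_dvd_pow 2 (not_lt.1 hlt)).trans pow_padicValNat_dvd
    have h : c ^ (n * b) = 1 := by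
      rw [hm, show 2 ^ padicValNat 2 (q - 1) * m * b = (q - 1) * m by rw [mul_right_comm, ← hqb],
        pow_mul, ← hF, FiniteField.pow_card_sub_one_eq_one c hc, one_pow]
    rw [pow_mul, hcn, hb.neg_one_pow] at h
    exact neg_one_ne_one_of_odd hF hq h
  · intro hlt
    obtain ⟨n', hn', hnn⟩ := exists_two_pow_mul_odd hn
    obtain ⟨g, hg⟩ := IsCyclic.exists_generator (α := Fˣ)
    have hord : orderOf g = q - 1 := by
      classical
      rw [orderOf_eq_card_of_forall_mem_zpowers hg, Nat.card_eq_fintype_card, Fintype.card_units, hF]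
    let e := 2 ^ (padicValNat 2 (q - 1) - padicValNat 2 n - 1) * b
    have hhalf : 2 ^ (padicValNat 2 (q - 1) - 1) * b * 2 = q - 1 := by
      conv_rhs => rw [hqb]
      rw [mul_right_comm, ← pow_succ, Nat.sub_add_cancel (by omega)]
    have hu : ((g : F) ^ (2 ^ (padicValNat 2 (q - 1) - 1) * b)) = -1 := by
      have hsq : ((g : F) ^ (2 ^ (padicValNat 2 (q - 1) - 1) * b)) ^ 2 = 1 := by
        rw [← pow_mul, hhalf, ← hord, ← Units.val_pow_eq_pow_val, pow_orderOf_eq_one, Units.val_one]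
      rcases sq_eq_one_iff.1 hsq with h | h
      · have : g ^ (2 ^ (padicValNat 2 (q - 1) - 1) * b) = 1 := Units.ext (by simpa using h)
        have hd := orderOf_dvd_of_pow_eq_one this
        rw [hord] at hd
        have hpos : 0 < 2 ^ (padicValNat 2 (q - 1) - 1) * b := by
          have := hb.pos; positivity
        have := Nat.le_of_dvd hpos hd
        omega
      · exact h
    refine ⟨(g : F) ^ e, pow_ne_zero _ g.ne_zero, ?_⟩
    rw [← pow_mul, show e * n = 2 ^ (padicValNat 2 (q - 1) - 1) * b * n' from ?_, pow_mul, hu,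
      hn'.neg_one_pow]
    show 2 ^ (padicValNat 2 (q - 1) - padicValNat 2 n - 1) * b * n = _
    generalize padicValNat 2 n = k at hnn hlt
    subst hnn
    rw [show 2 ^ (padicValNat 2 (q - 1) - k - 1) * b * (2 ^ k * n')
      = 2 ^ (padicValNat 2 (q - 1) - k - 1) * 2 ^ k * b * n' by ring,
      ← pow_add]
    congr 3
    omega

/-- A non-square `y` with `y ^ m = 1` forces the whole 2-part of `q - 1` into `m`. -/
lemma two_pow_dvd_of_pow_eq_one (hF : Fintype.card F = q) (hq : Odd q) {y : F} {m : ℕ}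
    (hy : y ^ ((q - 1) / 2) = -1) (hm : y ^ m = 1) : 2 ^ padicValNat 2 (q - 1) ∣ m := by
  have h1q := card_sub_one_pos hF
  have hy0 : y ≠ 0 := fun h => by
    rw [h, zero_pow (by obtain ⟨k, rfl⟩ := hq; omega)] at hy
    exact one_ne_zero (neg_eq_zero.1 hy.symm)
  obtain ⟨b, hb, hqb⟩ := exists_two_pow_mul_odd (show q - 1 ≠ 0 by omega)
  have hd : orderOf y ∣ q - 1 :=
    orderOf_dvd_of_pow_eq_one (hF ▸ FiniteField.pow_card_sub_one_eq_one y hy0)
  have hdm : orderOf y ∣ m := orderOf_dvd_of_pow_eq_one hm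
  refine dvd_trans ?_ hdm
  by_contra hc
  rw [hqb] at hd
  obtain ⟨u, v, hu, hv, huv⟩ := exists_dvd_and_dvd_of_dvd_mul hd
  obtain ⟨k, hk, rfl⟩ := (Nat.dvd_prime_pow Nat.prime_two).1 hu
  rcases hk.eq_or_lt with h | h
  · exact hc ⟨v, by rw [huv, h]⟩
  · have : orderOf y ∣ (q - 1) / 2 := by
      have e : (q - 1) / 2 = 2 ^ (padicValNat 2 (q - 1) - 1) * b := by
        refine Nat.div_eq_of_eq_mul_left (by norm_num) ?_
        conv_lhs => rw [hqb]
        rw [mul_right_comm, ← pow_succ, Nat.sub_add_cancel (by omega)]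
      rw [huv, e]
      exact Nat.mul_dvd_mul (Nat.pow_dvd_pow 2 (by omega)) hv
    rw [orderOf_dvd_iff_pow_eq_one.1 this] at hy
    exact neg_one_ne_one_of_odd hF hq hy.symm

end Cfsg.Agent.Arith
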