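import Mathlib

/-! Primitive prime divisors of `q ^ n - 1` and values of cyclotomic polynomials. -/

namespace Cfsg.Agent.Arith

open Polynomial

/-- `r` is a primitive prime divisor of `q ^ n - 1`. -/
def IsPPD (r q n : ℕ) : Prop :=
  r.Prime ∧ r ∣ q ^ n - 1 ∧ ∀ k : ℕ, 0 < k → k < n → ¬ r ∣ q ^ k - 1

/-- `m` is a primitive divisor of `q ^ n - 1`. -/
def IsPrimDiv (m q n : ℕ) : Prop :=
  m ∣ q ^ n - 1 ∧ ∀ i : ℕ, 1 ≤ i → i < n → Nat.Coprime m (q ^ i - 1)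

lemma dvd_pow_sub_one_iff {r q k : ℕ} (hq : 1 ≤ q) :
    r ∣ q ^ k - 1 ↔ orderOf (q : ZMod r) ∣ k := by
  rw [orderOf_dvd_iff_pow_eq_one, ← Nat.cast_pow, ← ZMod.natCast_eq_zero_iff,
    Nat.cast_sub (Nat.one_le_pow _ _ hq), sub_eq_zero, Nat.cast_one]

lemma ne_zero_of_dvd_pow_sub_one {r q k : ℕ} (hr : r.Prime) (hq : 1 ≤ q) (hk : k ≠ 0)
    (h : r ∣ q ^ k - 1) : (q : ZMod r) ≠ 0 := by
  have := Fact.mk hr
  intro h0
  have := orderOf_dvd_iff_pow_eq_one.1 ((dvd_pow_sub_one_iff hq).1 h)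
  rw [h0, zero_pow hk] at this
  exact zero_ne_one this

lemma ord_dvd_sub_one {r q k : ℕ} (hr : r.Prime) (hq : 1 ≤ q) (hk : k ≠ 0)
    (h : r ∣ q ^ k - 1) : orderOf (q : ZMod r) ∣ r - 1 := by
  have := Fact.mk hr
  exact ZMod.orderOf_dvd_card_sub_one (ne_zero_of_dvd_pow_sub_one hr hq hk h)

lemma isPPD_iff {r q n : ℕ} (hq : 1 ≤ q) (hn : 0 < n) :
    IsPPD r q n ↔ r.Prime ∧ orderOf (q : ZMod r) = n := by
  constructor
  · rintro ⟨hr, hd, hp⟩
    refine ⟨hr, ?_⟩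
    have hdvd := (dvd_pow_sub_one_iff hq).1 hd
    rcases (Nat.le_of_dvd hn hdvd).eq_or_lt with h | h
    · exact h
    · exact absurd ((dvd_pow_sub_one_iff hq).2 dvd_rfl)
        (hp _ (Nat.pos_of_dvd_of_pos hdvd hn) h)
  · rintro ⟨hr, he⟩
    refine ⟨hr, (dvd_pow_sub_one_iff hq).2 (by rw [he]), fun k hk hkn hd => ?_⟩
    have := (dvd_pow_sub_one_iff hq).1 hd
    rw [he] at this
    exact absurd (Nat.le_of_dvd hk this) (by omega)

lemma IsPPD.dvd_iff {r q n k : ℕ} (hq : 1 ≤ q) (hn : 0 < n) (h : IsPPD r q n) :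
    r ∣ q ^ k - 1 ↔ n ∣ k := by
  rw [dvd_pow_sub_one_iff hq, ((isPPD_iff hq hn).1 h).2]

lemma IsPPD.modEq {r q n : ℕ} (hq : 1 ≤ q) (hn : 0 < n) (h : IsPPD r q n) : n ∣ r - 1 := by
  have := ord_dvd_sub_one h.1 hq hn.ne' h.2.1
  rwa [((isPPD_iff hq hn).1 h).2] at this

lemma IsPPD.lt {r q n : ℕ} (hq : 1 ≤ q) (hn : 0 < n) (h : IsPPD r q n) : n + 1 ≤ r := by
  have h1 := h.modEq hq hn
  have h2 := h.1.two_le
  have := Nat.le_of_dvd (by omega) h1
  omega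

lemma IsPPD.not_dvd_base {r q n : ℕ} (hq : 1 ≤ q) (hn : 0 < n) (h : IsPPD r q n) : ¬ r ∣ q := by
  intro hd
  exact ne_zero_of_dvd_pow_sub_one h.1 hq hn.ne' h.2.1
    ((ZMod.natCast_eq_zero_iff _ _).2 hd)

lemma IsPrimDiv.isPPD {m r q n : ℕ} (h : IsPrimDiv m q n) (hr : r.Prime) (hrm : r ∣ m) :
    IsPPD r q n :=
  ⟨hr, hrm.trans h.1, fun k hk hkn hd => hr.ne_one <|
    Nat.eq_one_of_dvd_coprimes (h.2 k hk hkn) hrm hd⟩

lemma IsPPD.isPrimDiv {r q n : ℕ} (h : IsPPD r q n) : IsPrimDiv r q n :=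
  ⟨h.2.1, fun i hi hin => (h.1.coprime_iff_not_dvd).2 (h.2.2 i hi hin)⟩

lemma dvd_pred_of_forall_prime {n : ℕ} : ∀ m : ℕ, m ≠ 0 →
    (∀ r : ℕ, r.Prime → r ∣ m → r % n = 1 % n) → m % n = 1 % n := by
  intro m
  induction m using induction_on_primes with
  | zero => simp
  | one => simp
  | prime_mul p a hp ih =>
    intro h0 h
    have ha : a ≠ 0 := by rintro rfl; simp at h0
    rw [Nat.mul_mod, ih ha (fun r hr hd => h r hr (hd.mul_left p)), h p hp (dvd_mul_right p a),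
      ← Nat.mul_mod, one_mul]

lemma IsPrimDiv.mod_eq {m q n : ℕ} (hq : 2 ≤ q) (hn : 1 ≤ n) (h : IsPrimDiv m q n) :
    m % n = 1 % n := by
  have hpos : 0 < q ^ n - 1 := Nat.sub_pos_of_lt (Nat.one_lt_pow (by omega) (by omega))
  refine dvd_pred_of_forall_prime m (fun h0 => ?_) (fun r hr hd => ?_)
  · have := h.1; rw [h0, zero_dvd_iff] at this; omega
  · have h1 := (h.isPPD hr hd).modEq (q := q) (by omega) (by omega)
    exact ((Nat.modEq_iff_dvd' hr.one_le).2 h1).symm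

/-! ### values of cyclotomic polynomials -/

/-- The value at `q` of the `n`th cyclotomic polynomial, as a natural number. -/
noncomputable def phiVal (n q : ℕ) : ℕ := ((cyclotomic n ℤ).eval (q : ℤ)).natAbs

lemma phiVal_cast {n q : ℕ} (hq : 2 ≤ q) :
    (phiVal n q : ℤ) = (cyclotomic n ℤ).eval (q : ℤ) := by
  rw [phiVal, Int.natAbs_of_nonneg]
  exact (cyclotomic_pos_and_nonneg n _).2 (by exact_mod_cast (by omega : 1 ≤ q))

lemma dvd_phiVal_iff_int {r n q : ℕ} :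
    r ∣ phiVal n q ↔ (r : ℤ) ∣ (cyclotomic n ℤ).eval (q : ℤ) :=
  (Int.natCast_dvd).symm

lemma dvd_eval_iff_isRoot {r n q : ℕ} :
    (r : ℤ) ∣ (cyclotomic n ℤ).eval (q : ℤ) ↔ (cyclotomic n (ZMod r)).IsRoot (q : ZMod r) := by
  rw [← ZMod.intCast_zmod_eq_zero_iff_dvd, IsRoot.def, ← map_cyclotomic n (Int.castRingHom (ZMod r)),
    ← Int.cast_natCast (R := ZMod r) q, eval_intCast_map]
  simp

/-- A prime `r` divides `Φ n q` iff the prime-to-`r` part of `n` is the order of `q` mod `r`. -/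
lemma dvd_eval_cyclotomic_iff {r m k q : ℕ} (hr : r.Prime) (hm : ¬ r ∣ m) :
    (r : ℤ) ∣ (cyclotomic (r ^ k * m) ℤ).eval (q : ℤ) ↔ orderOf (q : ZMod r) = m := by
  have := Fact.mk hr
  have : NeZero (m : ZMod r) := ⟨fun h => hm ((ZMod.natCast_eq_zero_iff _ _).1 h)⟩
  rw [dvd_eval_iff_isRoot, isRoot_cyclotomic_prime_pow_mul_iff_of_charP]
  exact IsPrimitiveRoot.iff_orderOf

lemma exists_pow_mul_not_dvd {r n : ℕ} (hr : r.Prime) (hn : n ≠ 0) :
    ∃ k m : ℕ, ¬ r ∣ m ∧ n = r ^ k * m := by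
  obtain ⟨k, m, hm, h⟩ := Nat.exists_eq_pow_mul_and_not_dvd hn r hr.ne_one
  exact ⟨k, m, hm, h⟩

lemma dvd_phiVal_iff {r n q : ℕ} (hr : r.Prime) (hn : n ≠ 0) (hrq : ¬ r ∣ q) :
    r ∣ phiVal n q ↔ ∃ j : ℕ, n = orderOf (q : ZMod r) * r ^ j := by
  have := Fact.mk hr
  rw [dvd_phiVal_iff_int]
  obtain ⟨k, m, hm, rfl⟩ := exists_pow_mul_not_dvd hr hn
  rw [dvd_eval_cyclotomic_iff hr hm]
  refine ⟨fun h => ⟨k, by rw [h, mul_comm]⟩, fun ⟨j, hj⟩ => ?_⟩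
  have hq0 : (q : ZMod r) ≠ 0 := fun h => hrq ((ZMod.natCast_eq_zero_iff _ _).1 h)
  have hepos : 0 < orderOf (q : ZMod r) := Nat.pos_of_ne_zero fun h => by simp [h] at hj; exact hn (by simp [hj])
  have he : ¬ r ∣ orderOf (q : ZMod r) := fun h => by
    have h1 := Nat.le_of_dvd hepos h
    have h2 := Nat.le_of_dvd (by have := hr.two_le; omega) (ZMod.orderOf_dvd_card_sub_one hq0)
    have := hr.two_le
    omega
  have h1 : orderOf (q : ZMod r) ∣ m :=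
    (Nat.Coprime.pow_right k ((hr.coprime_iff_not_dvd).2 he).symm).dvd_of_dvd_mul_left
      (Dvd.intro _ hj.symm)
  have h2 : m ∣ orderOf (q : ZMod r) :=
    (Nat.Coprime.pow_right j ((hr.coprime_iff_not_dvd).2 hm).symm).dvd_of_dvd_mul_right
      (Dvd.intro_left _ hj)
  exact Nat.dvd_antisymm h1 h2

lemma phiVal_dvd {n q : ℕ} (hq : 2 ≤ q) : phiVal n q ∣ q ^ n - 1 := by
  obtain ⟨c, hc⟩ := cyclotomic.dvd_X_pow_sub_one n ℤ
  have h := congrArg (Polynomial.eval (q : ℤ)) hc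
  simp only [eval_sub, eval_pow, eval_X, eval_one, eval_mul] at h
  rw [← Int.natCast_dvd_natCast, phiVal_cast hq, Nat.cast_sub (Nat.one_le_pow _ _ (by omega))]
  exact ⟨c.eval (q : ℤ), by push_cast; exact h⟩

lemma phiVal_pos {n q : ℕ} (hq : 2 ≤ q) : 0 < phiVal n q := by
  have : (0 : ℤ) < phiVal n q := by
    rw [phiVal_cast hq]
    exact (cyclotomic_pos_and_nonneg n _).1 (by exact_mod_cast hq)
  exact_mod_cast this

lemma pow_sub_one_mul_phiVal_dvd {d n q : ℕ} (hq : 2 ≤ q) (h : d ∈ n.properDivisors) :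
    (q ^ d - 1) * phiVal n q ∣ q ^ n - 1 := by
  obtain ⟨c, hc⟩ := X_pow_sub_one_mul_cyclotomic_dvd_X_pow_sub_one_of_dvd ℤ h
  have h' := congrArg (Polynomial.eval (q : ℤ)) hc
  simp only [eval_sub, eval_pow, eval_X, eval_one, eval_mul] at h'
  rw [← Int.natCast_dvd_natCast, Nat.cast_mul, phiVal_cast hq,
    Nat.cast_sub (Nat.one_le_pow _ _ (by omega)), Nat.cast_sub (Nat.one_le_pow _ _ (by omega))]
  exact ⟨c.eval (q : ℤ), by push_cast; exact h'⟩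

lemma not_sq_dvd_geom_sum {r : ℕ} (hr : r.Prime) (hodd : Odd r) {a : ℤ} (ha : (r : ℤ) ∣ a - 1) :
    ¬ (r : ℤ) ^ 2 ∣ ∑ i ∈ Finset.range r, a ^ i := by
  obtain ⟨b, hb⟩ := ha
  intro hd
  have h : (r : ℤ) ^ 2 ∣ (∑ i ∈ Finset.range r, (1 + (r : ℤ) * b) ^ i * 1 ^ (r - 1 - i)) - r * 1 ^ (r - 1) :=
    odd_sq_dvd_geom_sum₂_sub (a := (1 : ℤ)) b hodd
  have ha' : 1 + (r : ℤ) * b = a := by rw [← hb]; ring
  simp only [one_pow, mul_one, ha'] at h
  have h' : (r : ℤ) ^ 2 ∣ (r : ℤ) := by simpa using dvd_sub hd h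
  have h'' : r ^ 2 ∣ r := by exact_mod_cast h'
  have := Nat.le_of_dvd hr.pos h''
  have := hr.two_le
  nlinarith

/-- An intrinsic (non-primitive) prime of `Φ n q` divides it only once. -/
lemma sq_not_dvd_phiVal {r n q : ℕ} (hr : r.Prime) (hn : 3 ≤ n) (hq : 2 ≤ q) (hrn : r ∣ n) :
    ¬ r ^ 2 ∣ phiVal n q := by
  intro hsq
  have hrp : r ∣ phiVal n q := dvd_trans (dvd_pow_self r two_ne_zero) hsq
  have hrq : ¬ r ∣ q := fun h => ne_zero_of_dvd_pow_sub_one hr (k := n) (by omega) (by omega)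
      (hrp.trans (phiVal_dvd hq)) ((ZMod.natCast_eq_zero_iff _ _).2 h)
  obtain ⟨j, hj⟩ := (dvd_phiVal_iff hr (by omega) hrq).1 hrp
  have heb := ord_dvd_sub_one hr (k := n) (by omega : 1 ≤ q) (by omega) (hrp.trans (phiVal_dvd hq))
  generalize he : orderOf (q : ZMod r) = e at hj heb
  rcases Nat.eq_zero_or_pos j with rfl | hjpos
  · rw [pow_zero, mul_one] at hj
    subst hj
    have h1 := Nat.le_of_dvd (by have := hr.two_le; omega) heb
    have h2 := Nat.le_of_dvd (by omega) hrn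
    have := hr.two_le
    omega
  obtain ⟨d, hd⟩ : ∃ d, d = e * r ^ (j - 1) := ⟨_, rfl⟩
  have hnd : n = d * r := by
    rw [hj, hd, mul_assoc, ← pow_succ, Nat.sub_add_cancel hjpos]
  have hdpos : 0 < d := by
    rcases Nat.eq_zero_or_pos d with h | h
    · rw [h] at hnd; omega
    · exact h
  have hdd : d ∈ n.properDivisors := Nat.mem_properDivisors.2 ⟨⟨r, hnd⟩, by
    have := hr.two_le; nlinarith⟩
  have hone : 1 ≤ q ^ d := Nat.one_le_pow _ _ (by omega)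
  have hgeom : (q ^ d - 1) * phiVal n q ∣ (q ^ d - 1) * ∑ i ∈ Finset.range r, (q ^ d) ^ i := by
    refine (pow_sub_one_mul_phiVal_dvd hq hdd).trans (dvd_of_eq ?_)
    have : (∑ i ∈ Finset.range r, ((q : ℤ) ^ d) ^ i) * ((q : ℤ) ^ d - 1) = (q : ℤ) ^ n - 1 := by
      rw [geom_sum_mul, ← pow_mul, ← hnd]
    zify [hone, Nat.one_le_pow n q (by omega)]
    rw [mul_comm, this]
  have hlt : 0 < q ^ d - 1 := Nat.sub_pos_of_lt (Nat.one_lt_pow hdpos.ne' (by omega))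
  have hS := hsq.trans (Nat.dvd_of_mul_dvd_mul_left hlt hgeom)
  have hqd : r ∣ q ^ d - 1 :=
    (dvd_pow_sub_one_iff (by omega)).2 (by rw [he]; exact ⟨_, hd⟩)
  rcases hr.eq_two_or_odd' with rfl | hodd
  · -- `r = 2`
    have he1 : e = 1 := Nat.dvd_one.1 (by simpa using heb)
    have hdeven : ∃ c, d = 2 * c := by
      rcases Nat.lt_or_ge j 2 with h | h
      · interval_cases j
        simp [he1] at hj
        omega
      · refine ⟨e * 2 ^ (j - 2), ?_⟩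
        rw [hd, show j - 1 = (j - 2) + 1 by omega, pow_succ]; ring
    obtain ⟨c, rfl⟩ := hdeven
    rw [show (∑ i ∈ Finset.range 2, (q ^ (2 * c)) ^ i) = (q ^ c) ^ 2 + 1 by
      simp [Finset.sum_range_succ, add_comm, ← pow_mul, mul_comm]] at hS
    have h4 : ((q ^ c) ^ 2 + 1) % 4 ≠ 0 := by
      rw [Nat.add_mod, Nat.pow_mod]
      have := Nat.mod_lt (q ^ c) (by norm_num : 4 > 0)
      interval_cases (q ^ c % 4) <;> simp
    exact h4 (Nat.mod_eq_zero_of_dvd (by simpa using hS) |>.trans rfl)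
  · refine not_sq_dvd_geom_sum hr hodd (a := ((q : ℤ) ^ d)) ?_ ?_
    · have := Int.natCast_dvd_natCast.2 hqd
      rwa [Nat.cast_sub hone, Nat.cast_pow, Nat.cast_one] at this
    · exact_mod_cast hS

/-- Largest prime divisor characterisation of an intrinsic prime. -/
lemma prime_le_of_dvd_phiVal {r s n q : ℕ} (hr : r.Prime) (hs : s.Prime) (hn : n ≠ 0) (hq : 2 ≤ q)
    (hrn : r ∣ n) (hrp : r ∣ phiVal n q) (hsn : s ∣ n) : s ≤ r := by
  have hrq : ¬ r ∣ q := fun h => ne_zero_of_dvd_pow_sub_one hr (k := n) (by omega) hn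
      (hrp.trans (phiVal_dvd hq)) ((ZMod.natCast_eq_zero_iff _ _).2 h)
  obtain ⟨j, hj⟩ := (dvd_phiVal_iff hr hn hrq).1 hrp
  have heb := ord_dvd_sub_one hr (k := n) (by omega : 1 ≤ q) hn (hrp.trans (phiVal_dvd hq))
  rw [hj] at hsn
  rcases hs.dvd_mul.1 hsn with h | h
  · have := Nat.le_of_dvd (by have := hr.two_le; omega) (h.trans heb)
    omega
  · exact le_of_eq ((Nat.prime_dvd_prime_iff_eq hs hr).1 (hs.dvd_of_dvd_pow h))

/-- A prime of `Φ n q` is either a primitive prime divisor or divides `n`. -/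
lemma isPPD_or_dvd {r n q : ℕ} (hr : r.Prime) (hn : 0 < n) (hq : 2 ≤ q) (hrp : r ∣ phiVal n q) :
    IsPPD r q n ∨ r ∣ n := by
  have hrq : ¬ r ∣ q := fun h => ne_zero_of_dvd_pow_sub_one hr (k := n) (by omega) (by omega)
      (hrp.trans (phiVal_dvd hq)) ((ZMod.natCast_eq_zero_iff _ _).2 h)
  obtain ⟨j, hj⟩ := (dvd_phiVal_iff hr (by omega) hrq).1 hrp
  rcases j.eq_zero_or_pos with rfl | hjp
  · exact Or.inl ((isPPD_iff (by omega) hn).2 ⟨hr, by rw [hj, pow_zero, mul_one]⟩)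
  · exact Or.inr (by rw [hj]; exact (dvd_pow_self r hjp.ne').mul_left _)

/-- Either `Φ n q` is itself a primitive divisor, or it is so after removing the largest prime
divisor of `n`. -/
lemma exists_primDiv {n q : ℕ} (hn : 3 ≤ n) (hq : 2 ≤ q) :
    IsPrimDiv (phiVal n q) q n ∨ ∃ r m : ℕ, r.Prime ∧ r ∣ n ∧ (∀ s, s.Prime → s ∣ n → s ≤ r) ∧
      phiVal n q = r * m ∧ IsPrimDiv m q n := by
  have key : ∀ m, m ∣ phiVal n q → (∀ s, s.Prime → s ∣ m → ¬ s ∣ n) → IsPrimDiv m q n := by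
    intro m hm hs
    refine ⟨hm.trans (phiVal_dvd hq), fun i hi hin => Nat.coprime_of_dvd fun s hsp hsm hsi => ?_⟩
    rcases isPPD_or_dvd hsp (by omega) hq (hsm.trans hm) with h | h
    · exact h.2.2 i hi hin hsi
    · exact hs s hsp hsm h
  by_cases h : ∀ s, s.Prime → s ∣ phiVal n q → ¬ s ∣ n
  · exact Or.inl (key _ dvd_rfl h)
  · push Not at h
    obtain ⟨r, hr, hrp, hrn⟩ := h
    obtain ⟨m, hm⟩ := hrp
    refine Or.inr ⟨r, m, hr, hrn, fun s hs => prime_le_of_dvd_phiVal hr hs (by omega) hq hrn ⟨m, hm⟩,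
      hm, key m ⟨r, by rw [hm, mul_comm]⟩ fun s hs hsm hsn => ?_⟩
    have hsp : s ∣ phiVal n q := hm ▸ hsm.mul_left r
    have h1 := prime_le_of_dvd_phiVal hr hs (by omega) hq hrn ⟨m, hm⟩ hsn
    have h2 := prime_le_of_dvd_phiVal hs hr (by omega) hq hsn hsp hrn
    obtain rfl : s = r := le_antisymm h1 h2
    exact sq_not_dvd_phiVal hs hn hq hrn (by rw [sq, hm]; exact Nat.mul_dvd_mul_left s hsm)

end Cfsg.Agent.Arith
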