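import Cfsg.Agent.Arith.LTE
import Cfsg.Agent.H55.AlgEmb
import Cfsg.Agent.Linear.Order

/-! The `r`-part of `|GL n q|` and homocyclic Sylow subgroups for primes `r > n`. -/

namespace Cfsg.Agent.Arith

open Polynomial

lemma orderOf_pos_of_not_dvd {r q : ℕ} [hr : Fact r.Prime] (hrq : ¬ r ∣ q) :
    0 < orderOf (q : ZMod r) := by
  rw [Nat.pos_iff_ne_zero]
  intro h
  have h0 := ZMod.orderOf_dvd_card_sub_one (p := r) (a := (q : ZMod r))
    (fun h => hrq ((ZMod.natCast_eq_zero_iff _ _).1 h))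
  rw [h, zero_dvd_iff] at h0
  have := hr.out.two_le
  omega

/-- The `r`-part of `Φ d q` is that of `q ^ d - 1` when `d` is the order of `q` mod `r`. -/
lemma padicValNat_phiVal {r q : ℕ} [hr : Fact r.Prime] (hq : 2 ≤ q) (hrq : ¬ r ∣ q) :
    padicValNat r (phiVal (orderOf (q : ZMod r)) q)
      = padicValNat r (q ^ orderOf (q : ZMod r) - 1) := by
  set d := orderOf (q : ZMod r) with hd
  have hdpos : 0 < d := orderOf_pos_of_not_dvd hrq
  have hprod : q ^ d - 1 = ∏ e ∈ d.divisors, phiVal e q := by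
    have h := congrArg (Polynomial.eval (q : ℤ)) (prod_cyclotomic_eq_X_pow_sub_one hdpos ℤ)
    simp only [eval_sub, eval_pow, eval_X, eval_one, eval_prod] at h
    have h2 := congrArg Int.natAbsHom h
    rw [map_prod] at h2
    refine Eq.trans ?_ h2.symm
    show _ = Int.natAbs _
    rw [show ((q : ℤ) ^ d - 1) = ((q ^ d - 1 : ℕ) : ℤ) by
      rw [Nat.cast_sub (Nat.one_le_pow _ _ (by omega))]; simp, Int.natAbs_natCast]
  rw [hprod, ← Nat.cons_self_properDivisors hdpos.ne', Finset.prod_cons,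
    padicValNat.mul (phiVal_pos hq).ne' (Finset.prod_ne_zero_iff.2 fun e _ => (phiVal_pos hq).ne'),
    padicValNat.eq_zero_of_not_dvd (n := ∏ e ∈ d.properDivisors, phiVal e q) ?_, add_zero]
  intro h
  obtain ⟨e, he, hre⟩ := (Prime.dvd_finsetProd_iff hr.out.prime _).1 h
  rw [Nat.mem_properDivisors] at he
  have := (dvd_pow_sub_one_iff (r := r) (k := e) (show 1 ≤ q by omega)).1 (hre.trans (phiVal_dvd hq))
  exact absurd (Nat.le_of_dvd (Nat.pos_of_dvd_of_pos he.1 hdpos) this) (by omega)

/-- `v_r (q ^ i - 1)` for `i < r`. -/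
lemma padicValNat_pow_sub_one_of_lt {r q i : ℕ} [hr : Fact r.Prime] (hq : 2 ≤ q)
    (hrq : ¬ r ∣ q) (hi : i ≠ 0) (hir : i < r) :
    padicValNat r (q ^ i - 1) = if orderOf (q : ZMod r) ∣ i
      then padicValNat r (q ^ orderOf (q : ZMod r) - 1) else 0 := by
  have hdpos := orderOf_pos_of_not_dvd (r := r) hrq
  split_ifs with h
  · obtain ⟨j, hj⟩ := h
    rw [hj, pow_mul]
    have hj0 : j ≠ 0 := by rintro rfl; simp [hi] at hj
    have hjr : j < r := lt_of_le_of_lt (hj ▸ Nat.le_mul_of_pos_left j hdpos) hir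
    have hQ : 2 ≤ q ^ orderOf (q : ZMod r) := le_trans hq (Nat.le_self_pow hdpos.ne' q)
    rw [padicValNat_pow_sub_one hr.out hQ hj0 ((dvd_pow_sub_one_iff (by omega)).2 dvd_rfl)
      (fun h2 => Or.inr (by omega)), padicValNat.eq_zero_of_not_dvd (n := j) (fun hd => by
        have := Nat.le_of_dvd (by omega) hd; omega), add_zero]
  · exact padicValNat.eq_zero_of_not_dvd fun hd => h ((dvd_pow_sub_one_iff (by omega)).1 hd)

variable {F : Type*} [Field F] [Fintype F] {q : ℕ}

lemma padicValNat_finsetProd {ι : Type*} {r : ℕ} [Fact r.Prime] (s : Finset ι) (f : ι → ℕ)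
    (h : ∀ i ∈ s, f i ≠ 0) : padicValNat r (∏ i ∈ s, f i) = ∑ i ∈ s, padicValNat r (f i) := by
  classical
  induction s using Finset.induction_on with
  | empty => simp
  | @insert a s ha ih =>
    rw [Finset.prod_insert ha, Finset.sum_insert ha, padicValNat.mul (h a (Finset.mem_insert_self a s))
      (Finset.prod_ne_zero_iff.2 fun i hi => h i (Finset.mem_insert_of_mem hi)),
      ih fun i hi => h i (Finset.mem_insert_of_mem hi)]

lemma padicValNat_card_GL (hF : Fintype.card F = q) (n : ℕ) {r : ℕ} [hr : Fact r.Prime]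
    (hrn : n < r) (hrq : ¬ r ∣ q) :
    padicValNat r (Nat.card (GL (Fin n) F))
      = n / orderOf (q : ZMod r) * padicValNat r (q ^ orderOf (q : ZMod r) - 1) := by
  have hq : 2 ≤ q := hF ▸ Fintype.one_lt_card
  have hne : ∀ i : Fin n, q ^ n - q ^ (i : ℕ) ≠ 0 := fun i =>
    (Nat.sub_pos_of_lt (Nat.pow_lt_pow_right (by omega) i.2)).ne'
  rw [Matrix.card_GL_field, hF, padicValNat_finsetProd _ _ (fun i _ => hne i)]
  have hterm : ∀ i : Fin n, padicValNat r (q ^ n - q ^ (i : ℕ))
      = if orderOf (q : ZMod r) ∣ n - (i : ℕ) then padicValNat r (q ^ orderOf (q : ZMod r) - 1)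
        else 0 := by
    intro i
    have hi := i.2
    rw [show q ^ n - q ^ (i : ℕ) = q ^ (i : ℕ) * (q ^ (n - (i : ℕ)) - 1) by
      rw [Nat.mul_sub, mul_one, ← pow_add, Nat.add_sub_cancel' hi.le],
      padicValNat.mul (pow_ne_zero _ (by omega)) (pow_sub_one_ne_zero hq (by omega)),
      padicValNat.eq_zero_of_not_dvd (n := q ^ (i : ℕ)) (fun h => hrq (hr.out.dvd_of_dvd_pow h)),
      zero_add, padicValNat_pow_sub_one_of_lt hq hrq (by omega) (by omega)]
  rw [Finset.sum_congr rfl fun i _ => hterm i, Finset.sum_ite, Finset.sum_const_zero, add_zero,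
    Finset.sum_const, smul_eq_mul]
  congr 1
  rw [← Nat.Ioc_filter_dvd_card_eq_div n (orderOf (q : ZMod r))]
  refine Finset.card_bij (fun i _ => n - (i : ℕ)) (fun i hi => ?_) (fun i _ j _ h => ?_)
    (fun b hb => ?_)
  · rw [Finset.mem_filter] at hi ⊢
    exact ⟨Finset.mem_Ioc.2 ⟨by have := i.2; omega, by omega⟩, hi.2⟩
  · have := i.2; have := j.2; exact Fin.ext (by omega)
  · rw [Finset.mem_filter, Finset.mem_Ioc] at hb
    exact ⟨⟨n - b, by omega⟩, Finset.mem_filter.2 ⟨Finset.mem_univ _, by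
      rw [show n - (n - b) = b by omega]; exact hb.2⟩, show n - (n - b) = b by omega⟩

/-- A finite cyclic group contains a cyclic group of every order dividing its order. -/
lemma exists_zmod_hom {C : Type*} [CommGroup C] [IsCyclic C] [Finite C] {m : ℕ}
    (hm : m ∣ Nat.card C) :
    ∃ f : Multiplicative (ZMod m) →* C, Function.Injective f := by
  obtain ⟨g, hg⟩ := IsCyclic.exists_generator (α := C)
  obtain ⟨c, hc⟩ := hm
  have hord : orderOf g = Nat.card C := orderOf_eq_card_of_forall_mem_zpowers hg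
  have hc0 : c ≠ 0 := fun h => by rw [h, mul_zero] at hc; exact Nat.card_pos.ne' hc
  have h1 : Nat.card (Subgroup.zpowers (g ^ c)) = m := by
    rw [Nat.card_zpowers, orderOf_pow_of_dvd hc0 (by rw [hord, hc]; exact dvd_mul_left c m), hord,
      hc, Nat.mul_div_cancel _ (Nat.pos_of_ne_zero hc0)]
  subst h1
  exact ⟨(Subgroup.zpowers (g ^ c)).subtype.comp (zmodCyclicMulEquiv inferInstance).toMonoidHom,
    Subtype.val_injective.comp (MulEquiv.injective _)⟩

/-- `(ZMod (r ^ e)) ^ (n / d)` embeds into `GL n q`. -/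
lemma exists_embedding_GL (hF : Fintype.card F = q) (n : ℕ) {r : ℕ} [hr : Fact r.Prime]
    (hrq : ¬ r ∣ q) {m : ℕ} (hm : m ∣ q ^ orderOf (q : ZMod r) - 1) :
    ∃ f : (Fin (n / orderOf (q : ZMod r)) → Multiplicative (ZMod m)) →* GL (Fin n) F,
      Function.Injective f := by
  obtain ⟨p, hp⟩ := CharP.exists F
  have hpp : p.Prime := (CharP.char_is_prime_or_zero F p).resolve_right (CharP.char_ne_zero_of_finite F p)
  have := Fact.mk hpp
  have hdpos := orderOf_pos_of_not_dvd (r := r) hrq
  have : NeZero (orderOf (q : ZMod r)) := ⟨hdpos.ne'⟩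
  let K := FiniteField.Extension F p (orderOf (q : ZMod r))
  let _ := Fintype.ofFinite K
  obtain ⟨j, hj⟩ := exists_zmod_hom (C := Kˣ) (m := m) (by
    rw [Nat.card_units, FiniteField.natCard_extension, Nat.card_eq_fintype_card, hF]; exact hm)
  let a := n / orderOf (q : ZMod r)
  have hle : a * orderOf (q : ZMod r) ≤ n := Nat.div_mul_le_self _ _
  let R := (Fin a → K) × (Fin (n - a * orderOf (q : ZMod r)) → F)
  have hR : Module.finrank F R = n := by
    rw [Module.finrank_prod, Module.finrank_pi_fintype, Module.finrank_fin_fun, Finset.sum_const,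
      Finset.card_univ, Fintype.card_fin, FiniteField.finrank_extension, smul_eq_mul]
    omega
  let h₀ : (Fin a → Multiplicative (ZMod m)) →* R :=
    { toFun := fun x => (fun i => ((j (x i) : Kˣ) : K), 1)
      map_one' := by ext <;> simp
      map_mul' := fun x y => Prod.ext (funext fun i => by show ((j ((x * y) i) : Kˣ) : K) = (j (x i) : K) * (j (y i) : K); rw [Pi.mul_apply, map_mul, Units.val_mul]) (one_mul (1 : Fin (n - a * orderOf (q : ZMod r)) → F)).symm }
  refine ⟨(H55.algUnitsToGL hR).comp h₀.toHomUnits,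
    (H55.algUnitsToGL_injective hR).comp fun x y h => ?_⟩
  have h' := congrArg (fun u : Rˣ => (u : R).1) h
  funext i
  exact hj (Units.ext (congrFun h' i))

lemma card_pi_zmod (a r e : ℕ) :
    Nat.card (Fin a → Multiplicative (ZMod (r ^ e))) = r ^ (a * e) := by
  rw [Nat.card_fun, Nat.card_congr Multiplicative.toAdd, Nat.card_zmod, Nat.card_eq_fintype_card,
    Fintype.card_fin, ← pow_mul, mul_comm]

/-- An embedded group of the order of the `r`-part is isomorphic to every Sylow subgroup. -/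
lemma nonempty_sylow_equiv {G A : Type*} [Group G] [Finite G] [Group A] {r : ℕ} [Fact r.Prime]
    (f : A →* G) (hf : Function.Injective f)
    (hA : Nat.card A = r ^ padicValNat r (Nat.card G)) (P : Sylow r G) :
    Nonempty (↥(P : Subgroup G) ≃* A) := by
  let Q : Sylow r G := Sylow.ofCard f.range (by
    rw [← Nat.card_congr (MonoidHom.ofInjective hf).toEquiv, hA,
      Nat.factorization_def _ Fact.out])
  exact ⟨(P.equiv Q).trans (MonoidHom.ofInjective hf).symm⟩

end Cfsg.Agent.Arith
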