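import Mathlib
import Cfsg.Agent.Arith.GaussPoisson

/-!
Theta series of even unimodular positive definite integral matrices as level one modular forms.
-/

set_option autoImplicit false

namespace Cfsg.Agent.Arith.ThetaSeries

open Real Matrix ModularForm UpperHalfPlane ModularFormClass EisensteinSeries
open Cfsg.Agent.Arith.GaussPoisson
open scoped MatrixGroups Manifold

noncomputable section

variable {n : ℕ}

/-- An even unimodular positive definite integral matrix. -/
structure EvenUnimodular (B : Matrix (Fin n) (Fin n) ℤ) : Prop where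
  symm : B.IsSymm
  pos : ∀ x : Fin n → ℤ, x ≠ 0 → 0 < x ⬝ᵥ (B *ᵥ x)
  even : ∀ x : Fin n → ℤ, (2 : ℤ) ∣ x ⬝ᵥ (B *ᵥ x)
  det : B.det = 1

/-- The real matrix of an integral one. -/
def realMat (B : Matrix (Fin n) (Fin n) ℤ) : Matrix (Fin n) (Fin n) ℝ :=
  B.map (Int.castRingHom ℝ)

variable {B : Matrix (Fin n) (Fin n) ℤ}

lemma realMat_mulVec (x : Fin n → ℤ) : realMat B *ᵥ toR x = toR (B *ᵥ x) := by
  funext i
  simp [realMat, toR, mulVec, dotProduct]

lemma qf_toR (x : Fin n → ℤ) : qf (realMat B) (toR x) = ((x ⬝ᵥ (B *ᵥ x) : ℤ) : ℝ) := by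
  rw [qf, realMat_mulVec]
  simp [toR, dotProduct]

lemma det_realMat (h : EvenUnimodular B) : (realMat B).det = 1 := by
  have : (realMat B).det = Int.castRingHom ℝ B.det := (RingHom.map_det _ B).symm
  simp [this, h.det]

lemma posDef_realMat (h : EvenUnimodular B) : (realMat B).PosDef := by
  have hq : ∀ v : Fin n → ℝ, 0 ≤ qf (realMat B) v := by
    have hd : DenseRange (fun (q : Fin n → ℚ) i => ((q i : ℚ) : ℝ)) :=
      DenseRange.piMap fun _ => Rat.denseRange_cast
    intro v
    refine hd.induction_on v (isClosed_le continuous_const (by unfold qf dotProduct mulVec; fun_prop))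
      fun q => ?_
    obtain ⟨⟨N, hN⟩, hint⟩ := IsLocalization.exist_integer_multiples_of_finite
      (nonZeroDivisors ℤ) q
    choose x hx using hint
    have hN0 : (N : ℝ) ≠ 0 := Int.cast_ne_zero.2 (nonZeroDivisors.ne_zero hN)
    have hxq : (fun i => ((q i : ℚ) : ℝ)) = (N : ℝ)⁻¹ • toR x := by
      funext i
      have h1 := congrArg (Rat.cast : ℚ → ℝ) (hx i)
      simp at h1
      simp [toR, h1, hN0]
    rw [hxq, qf_smul, qf_toR]
    refine mul_nonneg (sq_nonneg _) (Int.cast_nonneg ?_)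
    rcases eq_or_ne x 0 with hx0 | hx0
    · simp [hx0]
    · exact (h.pos x hx0).le
  have hh : (realMat B).IsHermitian := by
    ext i j
    simp [realMat, h.symm.apply i j]
  have hps : (realMat B).PosSemidef :=
    PosSemidef.of_dotProduct_mulVec_nonneg hh fun v => by simpa [qf] using hq v
  exact hps.posDef_iff_det_ne_zero.2 (by rw [det_realMat h]; exact one_ne_zero)

/-- Half the norm of a vector. -/
def halfNorm (B : Matrix (Fin n) (Fin n) ℤ) (x : Fin n → ℤ) : ℕ := (x ⬝ᵥ (B *ᵥ x) / 2).toNat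

lemma norm_eq (h : EvenUnimodular B) (x : Fin n → ℤ) :
    x ⬝ᵥ (B *ᵥ x) = 2 * (halfNorm B x : ℤ) := by
  have h0 : 0 ≤ x ⬝ᵥ (B *ᵥ x) := by
    rcases eq_or_ne x 0 with hx0 | hx0
    · simp [hx0]
    · exact (h.pos x hx0).le
  have := h.even x
  unfold halfNorm
  omega

lemma qf_eq (h : EvenUnimodular B) (x : Fin n → ℤ) :
    qf (realMat B) (toR x) = 2 * (halfNorm B x : ℝ) := by
  rw [qf_toR, norm_eq h]
  push_cast
  rfl

/-- A summand of the theta series. -/
def term (B : Matrix (Fin n) (Fin n) ℤ) (x : Fin n → ℤ) (τ : ℂ) : ℂ :=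
  Complex.exp (π * Complex.I * τ * (qf (realMat B) (toR x) : ℂ))

/-- The theta series. -/
def theta (B : Matrix (Fin n) (Fin n) ℤ) (τ : ℂ) : ℂ := ∑' x, term B x τ

lemma norm_term (x : Fin n → ℤ) (τ : ℂ) :
    ‖term B x τ‖ = rexp (-(π * τ.im * qf (realMat B) (toR x))) := by
  rw [term, Complex.norm_exp]
  congr 1
  simp

lemma summable_term (h : EvenUnimodular B) {τ : ℂ} (hτ : 0 < τ.im) :
    Summable fun x => term B x τ :=
  Summable.of_norm ((summable_gauss_zero (posDef_realMat h) (by positivity)).congr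
    fun x => (norm_term x τ).symm)

lemma theta_poisson (h : EvenUnimodular B) {τ : ℂ} (hτ : 0 < τ.im) :
    theta B τ = (1 / (-Complex.I * τ) ^ (1 / 2 : ℂ)) ^ n * theta B (-1 / τ) := by
  have hu : IsUnit B.det := by simp [h.det]
  have huR : IsUnit (realMat B).det := by simp [det_realMat h]
  let e : (Fin n → ℤ) ≃ (Fin n → ℤ) :=
    ⟨fun u => B *ᵥ u, fun k => B⁻¹ *ᵥ k,
      fun u => by simp [mulVec_mulVec, nonsing_inv_mul _ hu],
      fun k => by simp [mulVec_mulVec, mul_nonsing_inv _ hu]⟩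
  have hp := poisson (posDef_realMat h) hτ 0
  simp only [det_realMat h, Real.sqrt_one, zero_dotProduct, Complex.ofReal_zero, mul_zero, add_zero,
    Complex.ofReal_one, div_one, mul_one] at hp
  unfold theta term
  rw [hp]
  congr 1
  rw [← e.tsum_eq]
  refine tsum_congr fun u => ?_
  have : qf (realMat B)⁻¹ (0 - toR (e u)) = qf (realMat B) (toR u) := by
    simp only [e, Equiv.coe_fn_mk, qf, zero_sub, mulVec_neg, neg_dotProduct, dotProduct_neg, neg_neg,
      ← realMat_mulVec, mulVec_mulVec, nonsing_inv_mul _ huR, one_mulVec]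
    exact dotProduct_comm _ _
  rw [this]
  congr 1
  ring

lemma cpow_half_pow_even (w : ℂ) {m : ℕ} : (w ^ (1 / 2 : ℂ)) ^ (2 * m) = w ^ m := by
  rw [pow_mul, one_div, show (2 : ℂ) = ((2 : ℕ) : ℂ) by norm_num, Complex.cpow_nat_inv_pow w two_ne_zero]

lemma theta_T (h : EvenUnimodular B) (τ : ℂ) : theta B (τ + 1) = theta B τ := by
  refine tsum_congr fun x => ?_
  rw [term, term, qf_eq h]
  push_cast
  rw [Complex.exp_eq_exp_iff_exists_int]
  exact ⟨halfNorm B x, by push_cast; ring⟩

lemma differentiableOn_theta (h : EvenUnimodular B) :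
    DifferentiableOn ℂ (theta B) {z | 0 < z.im} := by
  intro z hz
  have hz' : 0 < z.im / 2 := half_pos hz
  have hU : IsOpen {w : ℂ | z.im / 2 < w.im} := isOpen_lt continuous_const Complex.continuous_im
  have hd : DifferentiableOn ℂ (theta B) {w : ℂ | z.im / 2 < w.im} := by
    unfold theta
    refine Complex.differentiableOn_tsum_of_summable_norm
      (summable_gauss_zero (posDef_realMat h) (t := π * (z.im / 2)) (by positivity))
      (fun x => by unfold term; fun_prop) hU fun x w hw => ?_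
    rw [norm_term, Real.exp_le_exp, neg_le_neg_iff]
    refine mul_le_mul_of_nonneg_right (mul_le_mul_of_nonneg_left (le_of_lt hw) pi_pos.le)
      (qf_nonneg (posDef_realMat h) _)
  exact (hd.differentiableAt (hU.mem_nhds (show z.im / 2 < z.im from half_lt_self hz))).differentiableWithinAt

lemma isBoundedAtImInfty_theta (h : EvenUnimodular B) :
    IsBoundedAtImInfty fun τ : ℍ => theta B τ := by
  rw [isBoundedAtImInfty_iff]
  refine ⟨∑' x, rexp (-(π * qf (realMat B) (toR x))), 1, fun τ hτ => ?_⟩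
  refine tsum_of_norm_bounded
    (summable_gauss_zero (posDef_realMat h) pi_pos).hasSum fun x => ?_
  rw [norm_term, Real.exp_le_exp, neg_le_neg_iff]
  have h1 : (1 : ℝ) ≤ (τ : ℂ).im := hτ
  exact mul_le_mul_of_nonneg_right (le_mul_of_one_le_right pi_pos.le h1)
    (qf_nonneg (posDef_realMat h) _)

lemma theta_slash {B : Matrix (Fin 24) (Fin 24) ℤ} (h : EvenUnimodular B) (γ : SL(2, ℤ)) :
    (fun τ : ℍ => theta B τ) ∣[(12 : ℤ)] γ = fun τ : ℍ => theta B τ := by
  refine SlashInvariantForm.slash_action_generators_SL2Z ?_ ?_ γ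
  · funext τ
    rw [SlashInvariantForm.slash_S_apply]
    have hp := theta_poisson h τ.im_pos
    have h24 : (1 / (-Complex.I * (τ : ℂ)) ^ (1 / 2 : ℂ)) ^ 24 = ((τ : ℂ) ^ 12)⁻¹ := by
      rw [div_pow, one_pow, one_div, show 24 = 2 * 12 from rfl, cpow_half_pow_even, mul_pow]
      have : (-Complex.I) ^ 12 = 1 := by
        rw [show 12 = 4 * 3 from rfl, pow_mul, Even.neg_pow ⟨2, rfl⟩, Complex.I_pow_four, one_pow]
      rw [this, one_mul]
    rw [h24] at hp
    rw [hp]
    simp only [_root_.zpow_neg, zpow_ofNat, neg_div, one_div, inv_neg]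
    ring
  · funext τ
    rw [SL_slash_apply, modular_T_smul, ModularGroup.denom_apply]
    simp [ModularGroup.T, add_comm (1 : ℂ), theta_T h]

/-- The theta series as a modular form, in rank `24`. -/
def thetaForm {B : Matrix (Fin 24) (Fin 24) ℤ} (h : EvenUnimodular B) : ModularForm 𝒮ℒ 12 where
  toFun τ := theta B τ
  slash_action_eq' := by
    rintro _ ⟨γ, rfl⟩
    exact theta_slash h γ
  holo' := by
    rw [UpperHalfPlane.mdifferentiable_iff]
    refine (differentiableOn_theta h).congr fun z hz => ?_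
    simp [ofComplex_apply_of_im_pos hz]
  bdd_at_cusps' {c} hc := by
    rw [OnePoint.isBoundedAt_iff_forall_SL2Z hc]
    intro γ _
    rw [theta_slash h γ]
    exact isBoundedAtImInfty_theta h

lemma finite_norm_eq (h : EvenUnimodular B) (m : ℕ) :
    {x : Fin n → ℤ | halfNorm B x = m}.Finite := by
  have hev := (summable_gauss_zero (posDef_realMat h) (t := (1 : ℝ))
    one_pos).tendsto_cofinite_zero.eventually_lt_const (exp_pos (-(2 * (m : ℝ) + 1)))
  refine (Filter.eventually_cofinite.1 hev).subset fun x hx => ?_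
  simp only [Set.mem_ofPred_eq] at hx ⊢
  rw [not_lt, Real.exp_le_exp, qf_eq h, hx]
  linarith

lemma hasSum_theta_q (h : EvenUnimodular B) (τ : ℍ) :
    HasSum (fun m : ℕ => (({x : Fin n → ℤ | halfNorm B x = m}.ncard : ℂ)) •
      Function.Periodic.qParam 1 (τ : ℂ) ^ m) (theta B τ) := by
  refine HasSum.sigma ((Equiv.sigmaFiberEquiv (halfNorm B)).hasSum_iff.2
    (summable_term h τ.im_pos).hasSum) fun m => ?_
  have : Fintype {x // halfNorm B x = m} := (finite_norm_eq h m).fintype
  have hval : ∀ x : {x // halfNorm B x = m},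
      term B x.1 τ = Function.Periodic.qParam 1 (τ : ℂ) ^ m := by
    rintro ⟨x, hx⟩
    rw [term, qf_eq h, hx, Function.Periodic.qParam, ← Complex.exp_nat_mul]
    congr 1
    push_cast
    ring
  have hsum := hasSum_fintype (fun _ : {x // halfNorm B x = m} =>
    Function.Periodic.qParam 1 (τ : ℂ) ^ m)
  rw [Finset.sum_const, Finset.card_univ, ← Nat.card_eq_fintype_card, nsmul_eq_mul] at hsum
  rw [smul_eq_mul, ← Nat.card_coe_set_eq]
  have hfun : (fun c : {x // halfNorm B x = m} => ((fun x => term B x τ) ∘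
      (Equiv.sigmaFiberEquiv (halfNorm B))) ⟨m, c⟩) = fun _ =>
      Function.Periodic.qParam 1 (τ : ℂ) ^ m := funext fun x => hval x
  rw [hfun]
  exact hsum

lemma coeff_thetaForm {B : Matrix (Fin 24) (Fin 24) ℤ} (h : EvenUnimodular B) (m : ℕ) :
    (qExpansion 1 (thetaForm h)).coeff m =
      ({x : Fin 24 → ℤ | halfNorm B x = m}.ncard : ℂ) :=
  (ModularFormClass.qExpansion_coeff_unique (f := thetaForm h) one_pos one_mem_strictPeriods_SL
    (c := fun m => ({x : Fin 24 → ℤ | halfNorm B x = m}.ncard : ℂ))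
    (fun τ => hasSum_theta_q h τ) m).symm

lemma ncard_norm (h : EvenUnimodular B) (m : ℕ) :
    {x : Fin n → ℤ | x ⬝ᵥ (B *ᵥ x) = 2 * (m : ℤ)} = {x | halfNorm B x = m} := by
  ext x
  simp only [Set.mem_ofPred_eq, norm_eq h]
  omega

end

end Cfsg.Agent.Arith.ThetaSeries
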