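import Mathlib

/-!
A square matrix over a field is similar to its transpose, via a nondegenerate form on the
`F[X]`-module decomposition.
-/

set_option autoImplicit false

namespace Cfsg.Agent.Arith.TransposeSimilar

open Polynomial Module
open scoped DirectSum

universe u

variable {F : Type u} [Field F]

lemma exists_frobenius (a : F[X]) (ha : a ≠ 0) :
    ∃ φ : (F[X] ⧸ Ideal.span {a}) →ₗ[F] F, ∀ r, r ≠ 0 → ∃ s, φ (r * s) ≠ 0 := by
  set c := C a.leadingCoeff⁻¹ * a with hc
  have hu : IsUnit (C a.leadingCoeff⁻¹) := by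
    rw [isUnit_C]; exact (inv_ne_zero (leadingCoeff_ne_zero.2 ha)).isUnit
  have hm : c.Monic := monic_C_mul_of_mul_leadingCoeff_eq_one
    (inv_mul_cancel₀ (leadingCoeff_ne_zero.2 ha))
  have hspan : Ideal.span {a} = Ideal.span {c} := by
    rw [hc, Ideal.span_singleton_mul_left_unit hu]
  let e : (F[X] ⧸ Ideal.span {a}) ≃ₐ[F] AdjoinRoot c := Ideal.quotientEquivAlgOfEq F hspan
  refine ⟨(lcoeff F (c.natDegree - 1)).comp
    ((AdjoinRoot.modByMonicHom hm).comp e.toLinearMap), fun r hr => ?_⟩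
  set g := AdjoinRoot.modByMonicHom hm (e r) with hg
  have hge : AdjoinRoot.mk c g = e r := AdjoinRoot.mk_leftInverse hm (e r)
  have hg0 : g ≠ 0 := by
    intro h
    rw [h, map_zero] at hge
    exact hr (e.injective (by rw [← hge, map_zero]))
  have hdeg : g.natDegree < c.natDegree := by
    obtain ⟨x, h0⟩ := AdjoinRoot.mk_surjective (g := c) (e r)
    rw [hg, ← h0, AdjoinRoot.modByMonicHom_mk]
    refine natDegree_modByMonic_lt _ hm fun h1 => ?_
    apply hg0
    rw [hg, ← h0, AdjoinRoot.modByMonicHom_mk, h1, modByMonic_one]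
  refine ⟨e.symm (AdjoinRoot.mk c (X ^ (c.natDegree - 1 - g.natDegree))), ?_⟩
  have hd : (g * X ^ (c.natDegree - 1 - g.natDegree)).natDegree = c.natDegree - 1 := by
    rw [natDegree_mul hg0 (pow_ne_zero _ X_ne_zero), natDegree_X_pow]
    omega
  simp only [LinearMap.comp_apply, AlgEquiv.toLinearMap_apply, map_mul, AlgEquiv.apply_symm_apply,
    ← hge, lcoeff_apply]
  rw [← map_mul, AdjoinRoot.modByMonicHom_mk, (modByMonic_eq_self_iff hm).2
    (degree_lt_degree (by rw [hd]; omega))]
  have := leadingCoeff_ne_zero.2 (mul_ne_zero hg0 (pow_ne_zero (c.natDegree - 1 - g.natDegree) X_ne_zero))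
  rwa [leadingCoeff, hd] at this

lemma exists_form {ι : Type u} [Fintype ι] [DecidableEq ι] (a : ι → F[X]) (ha : ∀ i, a i ≠ 0) :
    ∃ ψ : (∀ i, F[X] ⧸ Ideal.span {a i}) →ₗ[F] F, ∀ r, r ≠ 0 → ∃ s, ψ (r * s) ≠ 0 := by
  choose φ hφ using fun i => exists_frobenius (a i) (ha i)
  refine ⟨∑ i, (φ i).comp (LinearMap.proj i), fun r hr => ?_⟩
  obtain ⟨i, hi⟩ := Function.ne_iff.1 hr
  obtain ⟨s, hs⟩ := hφ i (r i) hi
  refine ⟨Pi.single i s, ?_⟩
  simp only [LinearMap.sum_apply, LinearMap.comp_apply, LinearMap.proj_apply, Pi.mul_apply]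
  rw [Finset.sum_eq_single i (fun j _ hj => by simp [hj]) (fun h => absurd (Finset.mem_univ i) h)]
  simpa using hs

/-- A square matrix over a field is conjugate to its transpose. -/
theorem isConj_transpose {n : Type*} [Fintype n] [DecidableEq n] (A : Matrix n n F) :
    IsConj A A.transpose := by
  classical
  let T : (n → F) →ₗ[F] (n → F) := Matrix.toLin' A
  obtain ⟨ι, _, p, hp, k, ⟨g₀⟩⟩ := Module.equiv_directSum_of_isTorsion
    (R := F[X]) (M := Module.AEval' T) (Module.AEval.isTorsion_of_finiteDimensional F (n → F) T)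
  let g : Module.AEval' T ≃ₗ[F[X]] (∀ i, F[X] ⧸ Ideal.span {p i ^ k i}) :=
    g₀.trans (DirectSum.linearEquivFunOnFintype F[X] ι _)
  obtain ⟨ψ, hψ⟩ := exists_form (fun i => p i ^ k i) (fun i => pow_ne_zero _ (hp i).ne_zero)
  let G : (n → F) →ₗ[F] (∀ i, F[X] ⧸ Ideal.span {p i ^ k i}) :=
    (g.toLinearMap.restrictScalars F).comp (Module.AEval'.of T).toLinearMap
  let B : LinearMap.BilinForm F (n → F) :=
    ((LinearMap.mul F (∀ i, F[X] ⧸ Ideal.span {p i ^ k i})).compr₂ ψ).compl₁₂ G G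
  have hB : ∀ v w, B v w = ψ (G v * G w) := fun v w => rfl
  have hG : ∀ v, G (T v) = (X : F[X]) • G v := by
    intro v
    simp only [G, LinearMap.comp_apply, LinearEquiv.coe_coe, LinearMap.coe_restrictScalars,
      ← map_smul, Module.AEval'.X_smul_of]
  have hsym : ∀ v w, B (T v) w = B v (T w) := by
    intro v w
    rw [hB, hB, hG, hG, smul_mul_assoc, mul_smul_comm]
  have hnd : ∀ v, (∀ w, B v w = 0) → v = 0 := by
    intro v hv
    by_contra hv0
    have hG0 : G v ≠ 0 := fun h => hv0 (by simpa [G] using h)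
    obtain ⟨s, hs⟩ := hψ _ hG0
    apply hs
    have := hv ((Module.AEval'.of T).symm (g.symm s))
    simpa [hB, G] using this
  let M : Matrix n n F := LinearMap.BilinForm.toMatrix' B
  have hM : ∀ v w : n → F, B v w = dotProduct v (M.mulVec w) := fun v w => by
    rw [← Matrix.toBilin'_apply' M, Matrix.toBilin'_toMatrix']
  have hcomm : M * A = A.transpose * M := by
    apply Matrix.toLin'.injective
    refine LinearMap.ext fun w => ?_
    refine (dotProduct_eq _ _ fun v => ?_)
    rw [dotProduct_comm, dotProduct_comm _ v]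
    have := hsym v w
    simp only [hM, T, Matrix.toLin'_apply] at this
    rw [Matrix.toLin'_apply, Matrix.toLin'_apply, ← Matrix.mulVec_mulVec, ← Matrix.mulVec_mulVec,
      ← this, Matrix.dotProduct_mulVec _ A.transpose, Matrix.vecMul_transpose]
  have hdet : M.det ≠ 0 := by
    intro h
    obtain ⟨v, hv0, hv⟩ := Matrix.exists_vecMul_eq_zero_iff.2 h
    refine hv0 (hnd v fun w => ?_)
    rw [hM, Matrix.dotProduct_mulVec, hv, zero_dotProduct]
  exact ⟨((Matrix.isUnit_iff_isUnit_det M).2 hdet.isUnit).unit, hcomm⟩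

end Cfsg.Agent.Arith.TransposeSimilar
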