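import Mathlib
import Cfsg.Agent.H99.Chains

/-! Unipotent classes of `GL n` and partitions. -/

set_option autoImplicit false

namespace Cfsg.Agent.Arith.UnipotentClasses

open Cfsg.Agent.H99

variable {F : Type*} [Field F] {n : ℕ}

/-- `g - 1` as an endomorphism. -/
noncomputable def nilEnd (g : GL (Fin n) F) : Module.End F (Fin n → F) :=
  Matrix.toLinAlgEquiv' ((g : Matrix (Fin n) (Fin n) F) - 1)

lemma nilEnd_pow_eq_zero (g : GL (Fin n) F) (e : ℕ) :
    nilEnd g ^ e = 0 ↔ ((g : Matrix (Fin n) (Fin n) F) - 1) ^ e = 0 := by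
  rw [nilEnd, ← map_pow, map_eq_zero_iff _ (AlgEquiv.injective _)]

/-- The linear equivalence of an element of `GL n`. -/
noncomputable def glEquiv (g : GL (Fin n) F) : (Fin n → F) ≃ₗ[F] (Fin n → F) :=
  LinearEquiv.ofLinearMap (Matrix.toLin' (g : Matrix (Fin n) (Fin n) F))
    (Matrix.toLin' ((g⁻¹ : GL (Fin n) F) : Matrix (Fin n) (Fin n) F))
    (by rw [← Matrix.toLin'_mul, ← Units.val_mul, mul_inv_cancel, Units.val_one, Matrix.toLin'_one])
    (by rw [← Matrix.toLin'_mul, ← Units.val_mul, inv_mul_cancel, Units.val_one, Matrix.toLin'_one])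

lemma pow_sub_one_conj (g h : GL (Fin n) F) (e : ℕ) (hg : ((g : Matrix (Fin n) (Fin n) F) - 1) ^ e = 0) :
    (((h * g * h⁻¹ : GL (Fin n) F) : Matrix (Fin n) (Fin n) F) - 1) ^ e = 0 := by
  have : ((h * g * h⁻¹ : GL (Fin n) F) : Matrix (Fin n) (Fin n) F) - 1 =
      (h : Matrix (Fin n) (Fin n) F) * ((g : Matrix (Fin n) (Fin n) F) - 1) *
        ((h⁻¹ : GL (Fin n) F) : Matrix (Fin n) (Fin n) F) := by
    rw [mul_sub, sub_mul, mul_one, ← Units.val_mul, ← Units.val_mul, ← Units.val_mul, mul_inv_cancel,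
      Units.val_one]
  rw [this, Units.conj_pow, hg, mul_zero, zero_mul]

/-- The partition of a unipotent element. -/
noncomputable def parts (e : ℕ) (g : GL (Fin n) F) : Multiset ℕ := blockParts (nilEnd g) ⊤ e

lemma parts_conj (e : ℕ) (g h : GL (Fin n) F) (hg : ((g : Matrix (Fin n) (Fin n) F) - 1) ^ e = 0) :
    parts e (h * g * h⁻¹) = parts e g := by
  obtain ⟨L, m, b, hm, hb⟩ := exists_shift_basis (nilEnd g) ((nilEnd_pow_eq_zero g e).2 hg)
  have hb' : shiftEnd (b.map (glEquiv h)) = nilEnd (h * g * h⁻¹) := by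
    refine (b.map (glEquiv h)).ext fun x => ?_
    have h1 : nilEnd (h * g * h⁻¹) (glEquiv h (b x)) = glEquiv h (nilEnd g (b x)) := by
      show Matrix.mulVec (((h * g * h⁻¹ : GL (Fin n) F) : Matrix (Fin n) (Fin n) F) - 1)
          (Matrix.mulVec (h : Matrix (Fin n) (Fin n) F) (b x)) =
        Matrix.mulVec (h : Matrix (Fin n) (Fin n) F)
          (Matrix.mulVec ((g : Matrix (Fin n) (Fin n) F) - 1) (b x))
      rw [Matrix.mulVec_mulVec, Matrix.mulVec_mulVec]
      congr 1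
      rw [sub_mul, one_mul, mul_sub, mul_one, ← Units.val_mul, ← Units.val_mul, inv_mul_cancel_right]
    rw [Module.Basis.map_apply, h1, ← hb, ← Module.Basis.map_apply, shiftEnd, Module.Basis.constr_basis,
      shiftEnd, Module.Basis.constr_basis, apply_dite (glEquiv h)]
    split <;> simp
  rw [parts, parts, ← hb', blockParts_shiftEnd _ hm, ← hb, blockParts_shiftEnd _ hm]

lemma isConj_of_parts_eq (e : ℕ) (g g' : GL (Fin n) F)
    (hg : ((g : Matrix (Fin n) (Fin n) F) - 1) ^ e = 0)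
    (hg' : ((g' : Matrix (Fin n) (Fin n) F) - 1) ^ e = 0)
    (heq : parts e g = parts e g') : IsConj g g' := by
  classical
  obtain ⟨L, m, b, hm, hb⟩ := exists_shift_basis (nilEnd g) ((nilEnd_pow_eq_zero g e).2 hg)
  obtain ⟨L', m', b', hm', hb'⟩ := exists_shift_basis (nilEnd g') ((nilEnd_pow_eq_zero g' e).2 hg')
  rw [parts, parts, ← hb, blockParts_shiftEnd _ hm, ← hb', blockParts_shiftEnd _ hm'] at heq
  let σ : Fin L ≃ Fin L' := Equiv.ofFiberEquiv (f := m) (g := m') fun c => Fintype.equivOfCardEq (by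
    have h := congrArg (Multiset.count c) heq
    rw [Multiset.count_map, Multiset.count_map, ← Finset.filter_val, ← Finset.filter_val,
      Finset.card_val, Finset.card_val] at h
    rw [Fintype.card_subtype, Fintype.card_subtype]
    simpa [eq_comm] using h)
  have hσ : ∀ i, m' (σ i) = m i := fun i => Equiv.ofFiberEquiv_map _ i
  let τ : ((i : Fin L) × Fin (m i)) ≃ ((i : Fin L') × Fin (m' i)) :=
    σ.sigmaCongr fun i => finCongr (hσ i).symm
  let φ : (Fin n → F) ≃ₗ[F] (Fin n → F) := b.equiv b' τ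
  have hφ : φ.toLinearMap ∘ₗ nilEnd g = nilEnd g' ∘ₗ φ.toLinearMap := by
    rw [← hb, ← hb']
    refine b.ext fun x => ?_
    obtain ⟨i, k⟩ := x
    simp only [φ, LinearMap.comp_apply, LinearEquiv.coe_coe, shiftEnd, Module.Basis.constr_basis,
      Module.Basis.equiv_apply]
    by_cases hk : (k : ℕ) + 1 < m i
    · have hk' : ((τ ⟨i, k⟩).2 : ℕ) + 1 < m' (τ ⟨i, k⟩).1 := by
        show (k : ℕ) + 1 < m' (σ i)
        rw [hσ]; exact hk
      rw [dif_pos hk, dif_pos hk', Module.Basis.equiv_apply]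
      rfl
    · have hk' : ¬ ((τ ⟨i, k⟩).2 : ℕ) + 1 < m' (τ ⟨i, k⟩).1 := by
        show ¬ (k : ℕ) + 1 < m' (σ i)
        rw [hσ]; exact hk
      rw [dif_neg hk, dif_neg hk', map_zero]
  let M : GL (Fin n) F :=
    ⟨LinearMap.toMatrix' φ.toLinearMap, LinearMap.toMatrix' φ.symm.toLinearMap,
      by rw [← LinearMap.toMatrix'_comp, LinearEquiv.comp_coe, LinearEquiv.symm_trans_self,
        LinearEquiv.refl_toLinearMap, LinearMap.toMatrix'_id],
      by rw [← LinearMap.toMatrix'_comp, LinearEquiv.comp_coe, LinearEquiv.self_trans_symm,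
        LinearEquiv.refl_toLinearMap, LinearMap.toMatrix'_id]⟩
  refine isConj_iff.2 ⟨M, mul_inv_eq_iff_eq_mul.2 (Units.ext ?_)⟩
  have := congrArg LinearMap.toMatrix' hφ
  have e1 : ∀ A : Matrix (Fin n) (Fin n) F, (Matrix.toLinAlgEquiv' A : Module.End F (Fin n → F)) =
      Matrix.toLin' A := fun _ => rfl
  rw [LinearMap.toMatrix'_comp, LinearMap.toMatrix'_comp, nilEnd, nilEnd, e1, e1,
    LinearMap.toMatrix'_toLin', LinearMap.toMatrix'_toLin', mul_sub, sub_mul, mul_one, one_mul,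
    sub_left_inj] at this
  exact this

lemma exists_parts (e : ℕ) (μ : Nat.Partition n) (hμ : ∀ a ∈ μ.parts, a ≤ e) :
    ∃ g : GL (Fin n) F, ((g : Matrix (Fin n) (Fin n) F) - 1) ^ e = 0 ∧ parts e g = μ.parts := by
  classical
  obtain ⟨l, hl⟩ : ∃ l : List ℕ, (l : Multiset ℕ) = μ.parts := ⟨μ.parts.toList, Multiset.coe_toList _⟩
  let m : Fin l.length → ℕ := fun i => l[i.1]
  have hmap : Finset.univ.val.map m = μ.parts := by
    rw [← hl, Fin.univ_val_map]
    exact congrArg _ List.ofFn_getElem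
  have hm : ∀ i, 0 < m i ∧ m i ≤ e := fun i => by
    have hi : m i ∈ μ.parts := hmap ▸ Multiset.mem_map_of_mem m (Finset.mem_univ_val i)
    exact ⟨μ.parts_pos hi, hμ _ hi⟩
  have hcard : Fintype.card ((i : Fin l.length) × Fin (m i)) = n := by
    rw [Fintype.card_sigma]
    simp only [Fintype.card_fin]
    rw [Finset.sum, hmap, μ.parts_sum]
  let b := (Pi.basisFun F (Fin n)).reindex (Fintype.equivFinOfCardEq hcard).symm
  have hN : shiftEnd b ^ e = 0 := shiftEnd_pow_eq_zero b fun i => (hm i).2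
  set A := Matrix.toLinAlgEquiv'.symm (shiftEnd b) with hA
  have hA0 : A ^ e = 0 := by rw [hA, ← map_pow, hN, map_zero]
  have hu : IsUnit (1 + A) := IsNilpotent.isUnit_one_add ⟨e, hA0⟩
  refine ⟨hu.unit, ?_, ?_⟩
  · rw [IsUnit.unit_spec, add_sub_cancel_left]; exact hA0
  · rw [parts, nilEnd, IsUnit.unit_spec, add_sub_cancel_left, hA, AlgEquiv.apply_symm_apply,
      blockParts_shiftEnd _ hm, hmap]

/-- Classes of elements with `(g - 1) ^ e = 0` correspond to partitions with parts at most `e`. -/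
theorem card_classes [Fintype F] (e : ℕ) :
    Nat.card {C : ConjClasses (GL (Fin n) F) //
      ∃ g : GL (Fin n) F, ConjClasses.mk g = C ∧ ((g : Matrix (Fin n) (Fin n) F) - 1) ^ e = 0} =
    (Finset.univ.filter fun μ : Nat.Partition n => ∀ a ∈ μ.parts, a ≤ e).card := by
  classical
  rw [← Fintype.card_subtype, ← Nat.card_eq_fintype_card]
  have hz : ∀ g : GL (Fin n) F, ((g : Matrix (Fin n) (Fin n) F) - 1) ^ e = 0 →
      (parts e g).sum = n := by
    intro g hg
    rw [parts, sum_blockParts _ _ le_top e ((nilEnd_pow_eq_zero g e).2 hg), finrank_top,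
      Module.finrank_fintype_fun_eq_card, Fintype.card_fin]
  refine Nat.card_eq_of_bijective (fun C => ⟨⟨parts e C.2.choose,
    fun hi => (mem_blockParts _ _ hi).1, hz _ C.2.choose_spec.2⟩,
    fun a ha => (mem_blockParts _ _ ha).2⟩) ⟨?_, ?_⟩
  · intro C C' h
    have h' : parts e C.2.choose = parts e C'.2.choose :=
      congrArg (fun μ => μ.1.parts) h
    have := isConj_of_parts_eq e _ _ C.2.choose_spec.2 C'.2.choose_spec.2 h'
    refine Subtype.ext ?_
    rw [← C.2.choose_spec.1, ← C'.2.choose_spec.1]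
    exact ConjClasses.mk_eq_mk_iff_isConj.2 this
  · rintro ⟨μ, hμ⟩
    obtain ⟨g, hg, hp⟩ := exists_parts (F := F) e μ hμ
    refine ⟨⟨ConjClasses.mk g, g, rfl, hg⟩, Subtype.ext (Nat.Partition.ext ?_)⟩
    let C : {C : ConjClasses (GL (Fin n) F) //
        ∃ g : GL (Fin n) F, ConjClasses.mk g = C ∧ ((g : Matrix (Fin n) (Fin n) F) - 1) ^ e = 0} :=
      ⟨ConjClasses.mk g, g, rfl, hg⟩
    obtain ⟨h, hh⟩ := isConj_iff.1 (ConjClasses.mk_eq_mk_iff_isConj.1 C.2.choose_spec.1).symm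
    show parts e C.2.choose = μ.parts
    rw [← hh, parts_conj e g h hg, hp]

end Cfsg.Agent.Arith.UnipotentClasses

namespace Cfsg.Agent.Arith.UnipotentClasses

variable {F : Type*} [Field F] {n : ℕ}

lemma pow_eq_one_iff_sub_pow (p : ℕ) [Fact p.Prime] [CharP F p] (g : GL (Fin n) F) (k : ℕ) :
    g ^ p ^ k = 1 ↔ ((g : Matrix (Fin n) (Fin n) F) - 1) ^ p ^ k = 0 := by
  rcases Nat.eq_zero_or_pos n with rfl | hn
  · exact iff_of_true (Subsingleton.elim _ _) (Subsingleton.elim _ _)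
  haveI : Nonempty (Fin n) := ⟨⟨0, hn⟩⟩
  rw [sub_pow_char_pow_of_commute (p := p) (h := Commute.one_right _), one_pow, sub_eq_zero, Units.ext_iff,
    Units.val_pow_eq_pow_val, Units.val_one]

lemma exists_orderOf_pow_iff (p : ℕ) [Fact p.Prime] [CharP F p] (g : GL (Fin n) F) :
    (∃ k : ℕ, orderOf g = p ^ k) ↔ ((g : Matrix (Fin n) (Fin n) F) - 1) ^ n = 0 := by
  constructor
  · rintro ⟨k, hk⟩
    have h := (pow_eq_one_iff_sub_pow p g k).1 (hk ▸ pow_orderOf_eq_one g)
    have hnil : IsNilpotent ((g : Matrix (Fin n) (Fin n) F) - 1) := ⟨_, h⟩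
    have h2 := Matrix.isNilpotent_charpoly_sub_pow_of_isNilpotent hnil
    have h3 : ((g : Matrix (Fin n) (Fin n) F) - 1).charpoly = Polynomial.X ^ n := by
      rw [Fintype.card_fin] at h2
      exact sub_eq_zero.1 h2.eq_zero
    have h4 := Matrix.aeval_self_charpoly ((g : Matrix (Fin n) (Fin n) F) - 1)
    rwa [h3, Polynomial.aeval_X_pow] at h4
  · intro h
    have h' : g ^ p ^ n = 1 := (pow_eq_one_iff_sub_pow p g n).2
      (pow_eq_zero_of_le (Nat.lt_pow_self (Fact.out : p.Prime).one_lt).le h)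
    obtain ⟨k, -, hk⟩ := (Nat.dvd_prime_pow (Fact.out : p.Prime)).1 (orderOf_dvd_of_pow_eq_one h')
    exact ⟨k, hk⟩

lemma orderOf_eq_prime_iff' (p : ℕ) [Fact p.Prime] [CharP F p] (g : GL (Fin n) F) :
    orderOf g = p ↔ g ≠ 1 ∧ ((g : Matrix (Fin n) (Fin n) F) - 1) ^ p = 0 := by
  rw [orderOf_eq_prime_iff, and_comm]
  refine and_congr_right fun _ => ?_
  simpa using pow_eq_one_iff_sub_pow p g 1

end Cfsg.Agent.Arith.UnipotentClasses
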